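import Cfsg.Agent.H166.GUC.Odd

/-!
# S4537, G1 (even case): `GL_k(q ^ f) × GU_m(q)` in `GU_n(q)`, `n = f k + m`, `f` even (helper166)
-/

set_option autoImplicit false
set_option linter.unusedSectionVars false

namespace Cfsg.Agent.H166.GUC

open Module Cfsg.Agent.ClassicalGeometry Cfsg.Agent.H615.GU Cfsg.Agent.H624.Sl Polynomial
open scoped MatrixGroups

universe u

section cent

variable {F E : Type u} [Field F] [Finite F] [Field E] [Finite E] [Algebra F E] {k m n : ℕ}

theorem commute_aeval {R A : Type*} [CommSemiring R] [Semiring A] [Algebra R A] {a b : A} (h : Commute a b)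
    (p : R[X]) : Commute a (aeval b p) := by
  induction p using Polynomial.induction_on' with
  | add p q hp hq => rw [map_add]; exact hp.add_right hq
  | monomial n r =>
    rw [aeval_monomial]
    exact (Algebra.commute_algebraMap_right r a).mul_right (h.pow_right n)

/-- the centralizer of `jj e (z, y)` if `z` and `y` have no common eigenvalue -/
theorem cent_jj (e : ((Fin k → E) × (Fin m → F)) ≃ₗ[F] (Fin n → F)) (z : Eˣ)
    (hzK : Algebra.adjoin F {(z : E)} = ⊤) (y : GL (Fin m) F) (p : F[X]) (hp : aeval (z : E) p = 0)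
    (hpy : ∀ w, aeval (Matrix.toLin' y.1) p w = 0 → w = 0) (x : GL (Fin n) F)
    (hx : x * jj e (scl k z, y) = jj e (scl k z, y) * x) : ∃ (A : GL (Fin k) E) (B : GL (Fin m) F),
      jj e (A, B) = x ∧ B * y = y * B := by
  have hfin : Module.Finite F E := inferInstance
  let U : ((Fin k → E) × (Fin m → F)) →ₗ[F] ((Fin k → E) × (Fin m → F)) :=
    (e.symm : (Fin n → F) →ₗ[F] ((Fin k → E) × (Fin m → F))) ∘ₗ (Matrix.toLin' x.1) ∘ₗ
      (e : ((Fin k → E) × (Fin m → F)) →ₗ[F] (Fin n → F))
  have hUe : ∀ y, e (U y) = x.1.mulVec (e y) := fun y => by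
    show e (e.symm (Matrix.toLin' x.1 (e y))) = _
    rw [e.apply_symm_apply, Matrix.toLin'_apply]
  have hUinj : ∀ y, U y = 0 → y = 0 := by
    intro y hy
    have h1 := hUe y
    rw [hy, map_zero] at h1
    have h2 : (x⁻¹).1.mulVec (x.1.mulVec (e y)) = e y := by
      rw [Matrix.mulVec_mulVec, ← Units.val_mul, inv_mul_cancel, Units.val_one, Matrix.one_mulVec]
    rw [← h1, Matrix.mulVec_zero] at h2
    exact (LinearEquiv.map_eq_zero_iff e).1 h2.symm
  -- the operator of `jj e (z, y)`
  let X : Module.End F ((Fin k → E) × (Fin m → F)) :=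
    LinearMap.prodMap (Algebra.lsmul F F (Fin k → E) (z : E)) (Matrix.toLin' y.1)
  have hXe : ∀ v, e (X v) = (jj e (scl k z, y)).1.mulVec (e v) := by
    intro v
    have h1 := jj_mulVec e (scl k z) y v.1 v.2
    rw [Prod.mk.eta] at h1
    rw [h1, H901.Sl.scl_mulVec]
    rfl
  have hUX : Commute U X := by
    show U * X = X * U
    refine LinearMap.ext fun v => e.injective ?_
    rw [Module.End.mul_apply, Module.End.mul_apply, hUe, hXe, hXe, hUe, Matrix.mulVec_mulVec, Matrix.mulVec_mulVec,
      ← Units.val_mul, ← Units.val_mul, hx]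
  have hpX : ∀ p : F[X], aeval X p = LinearMap.prodMap (Algebra.lsmul F F (Fin k → E) (aeval (z : E) p))
      (aeval (Matrix.toLin' y.1) p) := by
    intro p
    have h1 := Polynomial.aeval_algHom_apply (LinearMap.prodMapAlgHom F (Fin k → E) (Fin m → F))
      (Algebra.lsmul F F (Fin k → E) (z : E), Matrix.toLin' y.1) p
    rw [Polynomial.aeval_prod_apply] at h1
    have h2 : aeval (Algebra.lsmul F F (Fin k → E) (z : E)) p = Algebra.lsmul F F (Fin k → E) (aeval (z : E) p) :=
      Polynomial.aeval_algHom_apply (Algebra.lsmul F F (Fin k → E)) (z : E) p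
    rw [h2] at h1
    exact h1
  have hUp : ∀ v w, U (0, aeval (Matrix.toLin' y.1) p w) = (0, aeval (Matrix.toLin' y.1) p (U (v, w)).2) := by
    intro v w
    have h1 := LinearMap.congr_fun (commute_aeval hUX p).eq (v, w)
    rw [Module.End.mul_apply, Module.End.mul_apply, hpX, hp, map_zero] at h1
    exact h1
  have hU : ∀ v w, U ((z : E) • v, y.1.mulVec w) = ((z : E) • (U (v, w)).1, y.1.mulVec (U (v, w)).2) := by
    intro v w
    exact LinearMap.congr_fun hUX.eq (v, w)
  have hsurj : Function.Surjective (aeval (Matrix.toLin' y.1) p) := by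
    refine LinearMap.injective_iff_surjective.1 ?_
    rw [injective_iff_map_eq_zero]
    exact hpy
  -- the components
  have hb : ∀ v, (U (v, 0)).2 = 0 := by
    intro v
    have h1 := hUp v 0
    rw [map_zero] at h1
    have h2 : U ((0, 0) : (Fin k → E) × (Fin m → F)) = 0 := map_zero U
    rw [h2] at h1
    exact hpy _ (congrArg Prod.snd h1).symm
  have hc : ∀ w, (U (0, w)).1 = 0 := by
    intro w
    obtain ⟨w', rfl⟩ := hsurj w
    exact congrArg Prod.fst (hUp 0 w')
  have hK : ∀ (c : E) (v : Fin k → E), (U (c • v, 0)).1 = c • (U (v, 0)).1 := by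
    intro c
    have hc' : c ∈ Algebra.adjoin F {(z : E)} := by rw [hzK]; trivial
    induction hc' using Algebra.adjoin_induction with
    | mem c hc =>
      intro v
      have h1 := hU v 0
      rw [Matrix.mulVec_zero] at h1
      rw [Set.mem_singleton_iff.1 hc, h1]
    | algebraMap r =>
      intro v
      have h1 : (((algebraMap F E r) • v, 0) : (Fin k → E) × (Fin m → F)) = r • (v, 0) := by
        rw [Prod.smul_mk, smul_zero, algebraMap_smul]
      rw [h1, map_smul, Prod.smul_fst, algebraMap_smul]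
    | add c d _ _ hc hd =>
      intro v
      have h1 : (((c + d) • v, 0) : (Fin k → E) × (Fin m → F)) = (c • v, 0) + (d • v, 0) := by
        rw [Prod.mk_add_mk, add_zero, add_smul]
      rw [h1, map_add, Prod.fst_add, hc, hd, add_smul]
    | mul c d _ _ hc hd =>
      intro v
      rw [mul_smul, hc, hd, mul_smul]
  let a : (Fin k → E) →ₗ[E] (Fin k → E) :=
    { toFun := fun v => (U (v, 0)).1
      map_add' := fun v v' => by
        have h1 : ((v + v', 0) : (Fin k → E) × (Fin m → F)) = (v, 0) + (v', 0) := by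
          rw [Prod.mk_add_mk, add_zero]
        rw [h1, map_add, Prod.fst_add]
      map_smul' := fun c v => hK c v }
  let d : (Fin m → F) →ₗ[F] (Fin m → F) :=
    { toFun := fun w => (U (0, w)).2
      map_add' := fun v v' => by
        have h1 : ((0, v + v') : (Fin k → E) × (Fin m → F)) = (0, v) + (0, v') := by
          rw [Prod.mk_add_mk, add_zero]
        rw [h1, map_add, Prod.snd_add]
      map_smul' := fun c v => by
        have h1 : ((0, c • v) : (Fin k → E) × (Fin m → F)) = c • (0, v) := by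
          rw [Prod.smul_mk, smul_zero]
        rw [h1, map_smul, Prod.smul_snd]; rfl }
  have ha : Function.Injective a := by
    rw [injective_iff_map_eq_zero]
    intro v hv
    have h1 : U (v, 0) = 0 := Prod.ext hv (hb v)
    exact congrArg Prod.fst (hUinj _ h1)
  have hd : Function.Injective d := by
    rw [injective_iff_map_eq_zero]
    intro w hw
    have h1 : U (0, w) = 0 := Prod.ext (hc w) hw
    exact congrArg Prod.snd (hUinj _ h1)
  obtain ⟨A, hA⟩ := H901.Sl.exists_gl a ha
  obtain ⟨B, hB⟩ := H901.Sl.exists_gl d hd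
  refine ⟨A, B, ?_, ?_⟩
  · apply H901.Sl.ext_mulVec
    intro y
    obtain ⟨⟨v, w⟩, rfl⟩ := e.surjective y
    rw [jj_mulVec, ← hUe, hA, hB]
    congr 1
    have h1 : ((v, w) : (Fin k → E) × (Fin m → F)) = (v, 0) + (0, w) := by
      rw [Prod.mk_add_mk, add_zero, zero_add]
    rw [h1, map_add]
    refine Prod.ext ?_ ?_
    · rw [Prod.fst_add, hc, add_zero]; rfl
    · rw [Prod.snd_add, hb, zero_add]; rfl
  · apply H901.Sl.ext_mulVec
    intro w
    rw [Units.val_mul, Units.val_mul, ← Matrix.mulVec_mulVec, ← Matrix.mulVec_mulVec, hB, hB]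
    have h1 := congrArg Prod.snd (hU 0 w)
    rw [smul_zero] at h1
    exact h1

theorem aeval_jj_scl (e : ((Fin k → E) × (Fin m → F)) ≃ₗ[F] (Fin n → F)) (z : Eˣ) (p : F[X]) (v : Fin k → E)
    (w : Fin m → F) : aeval (Matrix.toLin' (jj e (scl k z, 1)).1) p (e (v, w)) =
      e (aeval (z : E) p • v, aeval (1 : F) p • w) := by
  induction p using Polynomial.induction_on' with
  | add p q hp hq =>
    rw [map_add, LinearMap.add_apply, hp, hq, ← map_add, Prod.mk_add_mk, map_add, map_add, add_smul, add_smul]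
  | monomial i r =>
    have h1 : ∀ i : ℕ, (Matrix.toLin' (jj e (scl k z, 1)).1 ^ i) (e (v, w)) = e ((z : E) ^ i • v, w) := by
      intro i
      induction i with
      | zero => rw [pow_zero, pow_zero, one_smul]; rfl
      | succ i ih =>
        rw [pow_succ', Module.End.mul_apply, ih, Matrix.toLin'_apply, jj_mulVec, H901.Sl.scl_mulVec, Units.val_one,
          Matrix.one_mulVec, smul_smul, ← pow_succ']
    rw [aeval_monomial, aeval_monomial, aeval_monomial, Module.End.mul_apply, h1, one_pow, mul_one,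
      Module.algebraMap_end_apply, ← map_smul]
    congr 1
    rw [Prod.smul_mk, mul_smul, algebraMap_smul]
    rfl

/-- conjugate elements of finite fields -/
theorem exists_conj_pow (z t : E) (h : aeval t (minpoly F z) = 0) : ∃ i : ℕ, t = z ^ (Nat.card F ^ i) := by
  have hfin : Module.Finite F E := inferInstance
  have hint : IsIntegral F z := IsIntegral.of_finite F z
  have h1 : minpoly F t = minpoly F z :=
    (minpoly.eq_of_irreducible_of_monic (minpoly.irreducible hint) h (minpoly.monic hint)).symm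
  obtain ⟨σ, hσ⟩ := (Normal.minpoly_eq_iff_mem_orbit E).1 h1
  obtain ⟨j, hj⟩ := exists_fro_pow F E σ
  refine ⟨j, ?_⟩
  rw [← hj, ← hσ]
  rfl

end cent

section dual

variable {E : Type*} [Field E] {k q : ℕ} (θ : E ≃+* E)

/-- the inverse of the conjugate transpose -/
noncomputable def dl : GL (Fin k) E →* GL (Fin k) E where
  toFun A := ⟨(A⁻¹).1.transpose.map θ.symm, A.1.transpose.map θ.symm, by
      rw [← Matrix.map_mul, ← Matrix.transpose_mul, ← Units.val_mul, mul_inv_cancel, Units.val_one,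
        Matrix.transpose_one]
      exact Matrix.map_one _ (map_zero _) (map_one _), by
      rw [← Matrix.map_mul, ← Matrix.transpose_mul, ← Units.val_mul, inv_mul_cancel, Units.val_one,
        Matrix.transpose_one]
      exact Matrix.map_one _ (map_zero _) (map_one _)⟩
  map_one' := by
    apply Units.ext
    show ((1 : GL (Fin k) E)⁻¹).1.transpose.map θ.symm = 1
    rw [inv_one, Units.val_one, Matrix.transpose_one]
    exact Matrix.map_one _ (map_zero _) (map_one _)
  map_mul' A B := by
    apply Units.ext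
    show ((A * B)⁻¹).1.transpose.map θ.symm = (A⁻¹).1.transpose.map θ.symm * (B⁻¹).1.transpose.map θ.symm
    rw [mul_inv_rev, Units.val_mul, Matrix.transpose_mul, Matrix.map_mul]

theorem dl_val (A : GL (Fin k) E) : (dl θ A).1 = (A⁻¹).1.transpose.map θ.symm := rfl

theorem dl_map (A : GL (Fin k) E) : (dl θ A).1.map θ = (A⁻¹).1.transpose := by
  apply Matrix.ext
  intro i j
  rw [Matrix.map_apply, dl_val, Matrix.map_apply, θ.apply_symm_apply]

variable {θ} (hθ : ∀ x, θ x = x ^ q)

include hθ

theorem dl_eq (A : GL (Fin k) E) : ((dl θ A).1.map (fun x => x ^ q)).transpose * A.1 = 1 := by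
  have h1 : (dl θ A).1.map (fun x => x ^ q) = (dl θ A).1.map θ := by
    apply Matrix.ext
    intro i j
    rw [Matrix.map_apply, Matrix.map_apply, hθ]
  rw [h1, dl_map, Matrix.transpose_transpose, ← Units.val_mul, inv_mul_cancel, Units.val_one]

theorem eq_dl {A A' : GL (Fin k) E} (h : (A'.1.map (fun x => x ^ q)).transpose * A.1 = 1) : A' = dl θ A := by
  apply Units.ext
  have h1 : A'.1.map (fun x => x ^ q) = (A⁻¹).1.transpose := by
    have h2 : (A'.1.map (fun x => x ^ q)).transpose = (A⁻¹).1 := by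
      calc (A'.1.map (fun x => x ^ q)).transpose = (A'.1.map (fun x => x ^ q)).transpose * (A.1 * (A⁻¹).1) := by
            rw [← Units.val_mul, mul_inv_cancel, Units.val_one, mul_one]
        _ = _ := by rw [← mul_assoc, h, one_mul]
    rw [← h2, Matrix.transpose_transpose]
  rw [dl_val, ← h1]
  apply Matrix.ext
  intro i j
  rw [Matrix.map_apply, Matrix.map_apply, ← hθ, θ.symm_apply_apply]

theorem hermForm_eq (u v : Fin k → E) : hermForm k E q u v = u ⬝ᵥ fun i => θ (v i) := by
  rw [GUBasic.hermForm_apply]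
  exact Finset.sum_congr rfl fun i _ => by
    show u i * v i ^ q = u i * θ (v i)
    rw [hθ]

/-- adjoints -/
theorem herm_dl (A : GL (Fin k) E) (u v : Fin k → E) :
    hermForm k E q (A.1.mulVec u) ((dl θ A).1.mulVec v) = hermForm k E q u v := by
  rw [hermForm_eq hθ, hermForm_eq hθ]
  have h1 : (fun i => θ ((dl θ A).1.mulVec v i)) = (A⁻¹).1.transpose.mulVec (fun i => θ (v i)) := by
    rw [← dl_map]
    exact (map_mulVec' (θ : E →+* E) (dl θ A).1 v).symm
  rw [h1, Matrix.dotProduct_mulVec, Matrix.vecMul_transpose, Matrix.mulVec_mulVec, ← Units.val_mul, inv_mul_cancel,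
    Units.val_one, Matrix.one_mulVec]

theorem eq_dl_of_herm {A A' : GL (Fin k) E}
    (h : ∀ u v, hermForm k E q (A.1.mulVec u) (A'.1.mulVec v) = hermForm k E q u v) : A' = dl θ A := by
  have h1 : ∀ u v, hermForm k E q u (A'.1.mulVec v) = hermForm k E q u ((dl θ A).1.mulVec v) := by
    intro u v
    have h2 : A.1.mulVec ((A⁻¹).1.mulVec u) = u := by
      rw [Matrix.mulVec_mulVec, ← Units.val_mul, mul_inv_cancel, Units.val_one, Matrix.one_mulVec]
    rw [← h2, h, herm_dl hθ]
  apply Units.ext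
  apply Matrix.ext_of_mulVec_single
  intro j
  funext i
  have h2 := h1 (Pi.single i 1) (Pi.single j 1)
  rw [hermForm_eq hθ, hermForm_eq hθ, single_one_dotProduct, single_one_dotProduct] at h2
  exact θ.injective h2

end dual

section hyp

variable {F E : Type u} [Field F] [Fintype F] [Field E] [Finite E] [Algebra F E] {q g k m n : ℕ}

/-- the form -/
noncomputable def hform (F : Type u) [Field F] [Algebra F E] (q k m : ℕ)
    (x y : (Fin k → E) × ((Fin k → E) × (Fin m → F))) : F :=
  Algebra.trace F E (hermForm k E q x.1 y.2.1) + Algebra.trace F E (hermForm k E q y.1 x.2.1) ^ q +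
    hermForm m F q x.2.2 y.2.2

theorem herm_add_left (u u' v : Fin k → E) : hermForm k E q (u + u') v = hermForm k E q u v + hermForm k E q u' v := by
  simp only [GUBasic.hermForm_apply, Pi.add_apply, add_mul, Finset.sum_add_distrib]

theorem herm_smul_left (c : E) (u v : Fin k → E) : hermForm k E q (c • u) v = c * hermForm k E q u v := by
  simp only [GUBasic.hermForm_apply, Pi.smul_apply, smul_eq_mul, Finset.mul_sum, mul_assoc]

theorem herm_add_right (hF : Fintype.card F = q ^ 2) (u v v' : Fin k → E) :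
    hermForm k E q u (v + v') = hermForm k E q u v + hermForm k E q u v' := by
  obtain ⟨θ, hθ⟩ := exists_powHom hF E
  simp only [GUBasic.hermForm_apply, Pi.add_apply, ← hθ, map_add, mul_add, Finset.sum_add_distrib]

theorem herm_smul_right (c : E) (u v : Fin k → E) : hermForm k E q u (c • v) = c ^ q * hermForm k E q u v := by
  simp only [GUBasic.hermForm_apply, Pi.smul_apply, smul_eq_mul, Finset.mul_sum, mul_pow]
  exact Finset.sum_congr rfl fun i _ => by ring

theorem herm_zero_left (v : Fin k → E) : hermForm k E q 0 v = 0 := by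
  have := herm_smul_left (q := q) (0 : E) 0 v
  rwa [zero_smul, zero_mul] at this

theorem herm_zero_right (hq : q ≠ 0) (v : Fin k → E) : hermForm k E q v 0 = 0 := by
  have := herm_smul_right (q := q) (0 : E) v 0
  rwa [zero_smul, zero_pow hq, zero_mul] at this

theorem herm_single_right (hq : q ≠ 0) (u : Fin k → E) (c : Fin k) (b : E) :
    hermForm k E q u (Pi.single c b) = u c * b ^ q := by
  rw [GUBasic.hermForm_apply, Finset.sum_eq_single c]
  · rw [Pi.single_eq_same]
  · intro i _ hi
    rw [Pi.single_eq_of_ne hi, zero_pow hq, mul_zero]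
  · intro h
    exact absurd (Finset.mem_univ _) h

theorem herm_single_left (c : Fin k) (a : E) (v : Fin k → E) :
    hermForm k E q (Pi.single c a) v = a * v c ^ q := by
  rw [GUBasic.hermForm_apply, Finset.sum_eq_single c]
  · rw [Pi.single_eq_same]
  · intro i _ hi
    rw [Pi.single_eq_of_ne hi, zero_mul]
  · intro h
    exact absurd (Finset.mem_univ _) h

theorem hermF_hform (hF : Fintype.card F = q ^ 2) {σ : F →+* F} (hσ : ∀ x, σ x = x ^ q) :
    HermF σ (hform (E := E) F q k m) := by
  have hq := GUBasic.two_le hF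
  have hm := hermForm_hermF hF hσ m
  have hqq : ∀ a : F, (a ^ q) ^ q = a := fun a => by
    rw [← hσ, ← hσ, sigma_sigma hF hσ]
  constructor
  · intro u u' v
    unfold hform
    rw [Prod.fst_add, Prod.snd_add, Prod.fst_add, Prod.snd_add, herm_add_left, herm_add_right hF, hm.add, map_add,
      map_add, ← hσ (_ + _), map_add, hσ, hσ]
    ring
  · intro c u v
    unfold hform
    have h1 : (c • u).1 = (algebraMap F E c) • u.1 := by
      rw [Prod.smul_fst, algebraMap_smul]
    have h2 : (c • u).2.1 = (algebraMap F E c) • u.2.1 := by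
      rw [Prod.smul_snd, Prod.smul_fst, algebraMap_smul]
    have h3 : (c • u).2.2 = c • u.2.2 := rfl
    rw [h1, h2, h3, herm_smul_left, herm_smul_right, hm.smul, ← map_pow (algebraMap F E), ← Algebra.smul_def, ← Algebra.smul_def,
      map_smul, map_smul, smul_eq_mul, smul_eq_mul, mul_pow, hqq]
    ring
  · intro u v
    unfold hform
    rw [hm.symm u.2.2 v.2.2, map_add, map_add, hσ (Algebra.trace F E _), hσ (_ ^ q), hqq]
    ring
  · intro u hu
    refine Prod.ext ?_ (Prod.ext ?_ (hm.nd _ fun w => ?_))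
    · funext c
      refine eq_zero_of_trace (F := F) _ fun a => ?_
      obtain ⟨θ, hθ⟩ := exists_powHom hF E
      obtain ⟨b, hb⟩ : ∃ b : E, b ^ q = a := by
        obtain ⟨b, hb⟩ := (Finite.injective_iff_surjective.1 θ.injective) a
        exact ⟨b, by rw [← hθ, hb]⟩
      have h1 : Algebra.trace F E (hermForm k E q u.1 (Pi.single c b)) + Algebra.trace F E (hermForm k E q 0 u.2.1) ^ q +
          hermForm m F q u.2.2 0 = 0 := hu (0, (Pi.single c b, 0))
      rw [herm_zero_left, map_zero, zero_pow (by omega), hm.zero_right, add_zero, add_zero,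
        herm_single_right (by omega), hb, mul_comm] at h1
      exact h1
    · funext c
      have h0 : (u.2.1 c) ^ q = 0 := by
        refine eq_zero_of_trace (F := F) _ fun a => ?_
        have h1 : Algebra.trace F E (hermForm k E q u.1 0) + Algebra.trace F E (hermForm k E q (Pi.single c a) u.2.1) ^ q +
            hermForm m F q u.2.2 0 = 0 := hu (Pi.single c a, (0, 0))
        rw [herm_zero_right (by omega), map_zero, zero_add, hm.zero_right, add_zero, herm_single_left] at h1
        exact pow_eq_zero_iff (by omega : q ≠ 0) |>.1 h1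
      exact pow_eq_zero_iff (by omega : q ≠ 0) |>.1 h0
    · have h1 := hu (0, (0, w))
      unfold hform at h1
      rw [herm_zero_left, map_zero, zero_pow (by omega), add_zero] at h1
      have h2 : hermForm k E q u.1 ((0, (0, w)) : (Fin k → E) × ((Fin k → E) × (Fin m → F))).2.1 = 0 :=
        herm_zero_right (by omega) _
      rw [h2, map_zero, zero_add] at h1
      exact h1

/-- the homomorphism `GL_k(E) × GL_m(F) → GL_n(F)`, `u ↦ (u, u*⁻¹)` -/
noncomputable def J (θ : E ≃+* E) {r : ℕ} (e' : ((Fin k → E) × (Fin m → F)) ≃ₗ[F] (Fin r → F))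
    (e : ((Fin k → E) × (Fin r → F)) ≃ₗ[F] (Fin n → F)) : GL (Fin k) E × GL (Fin m) F →* GL (Fin n) F where
  toFun x := jj e (x.1, jj e' (dl θ x.1, x.2))
  map_one' := by
    show jj e (1, jj e' (dl θ 1, 1)) = 1
    rw [map_one]
    have h1 : jj e' ((1 : GL (Fin k) E), (1 : GL (Fin m) F)) = 1 := map_one (jj e')
    rw [h1]
    exact map_one (jj e)
  map_mul' x y := by
    show jj e (x.1 * y.1, jj e' (dl θ (x.1 * y.1), x.2 * y.2)) = _
    have h1 : jj e' (dl θ (x.1 * y.1), x.2 * y.2) = jj e' (dl θ x.1, x.2) * jj e' (dl θ y.1, y.2) := by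
      rw [map_mul (dl θ), ← map_mul (jj e')]
      rfl
    rw [h1, ← map_mul (jj e)]
    rfl

theorem J_apply (θ : E ≃+* E) {r : ℕ} (e' : ((Fin k → E) × (Fin m → F)) ≃ₗ[F] (Fin r → F))
    (e : ((Fin k → E) × (Fin r → F)) ≃ₗ[F] (Fin n → F)) (A : GL (Fin k) E) (B : GL (Fin m) F) :
    J θ e' e (A, B) = jj e (A, jj e' (dl θ A, B)) := rfl

theorem J_injective (θ : E ≃+* E) {r : ℕ} (e' : ((Fin k → E) × (Fin m → F)) ≃ₗ[F] (Fin r → F))
    (e : ((Fin k → E) × (Fin r → F)) ≃ₗ[F] (Fin n → F)) : Function.Injective (J θ e' e) := by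
  rintro ⟨A, B⟩ ⟨A', B'⟩ h
  have h1 := H901.Sl.jj_injective e h
  have h2 := congrArg Prod.fst h1
  have h3 := congrArg Prod.snd (H901.Sl.jj_injective e' (congrArg Prod.snd h1))
  exact Prod.ext h2 h3

theorem mem_J_iff (hF : Fintype.card F = q ^ 2) {θ : E ≃+* E} (hθ : ∀ x, θ x = x ^ q) {r : ℕ}
    (e' : ((Fin k → E) × (Fin m → F)) ≃ₗ[F] (Fin r → F))
    (e : ((Fin k → E) × (Fin r → F)) ≃ₗ[F] (Fin n → F))
    (he : ∀ x y : (Fin k → E) × ((Fin k → E) × (Fin m → F)),
      hermForm n F q (e (x.1, e' x.2)) (e (y.1, e' y.2)) = hform F q k m x y) (A A' : GL (Fin k) E)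
    (B : GL (Fin m) F) :
    jj e (A, jj e' (A', B)) ∈ GU n F q ↔ A' = dl θ A ∧ B ∈ GU m F q := by
  obtain ⟨σ, hσ⟩ := GUBasic.exists_powHom hF
  have hq := GUBasic.two_le hF
  have hm := hermForm_hermF hF hσ m
  have h2 : ∀ x : (Fin k → E) × ((Fin k → E) × (Fin m → F)),
      ((jj e (A, jj e' (A', B)) : GL (Fin n) F) : Matrix (Fin n) (Fin n) F).mulVec (e (x.1, e' x.2)) =
        e (A.1.mulVec x.1, e' (A'.1.mulVec x.2.1, B.1.mulVec x.2.2)) := by
    intro x
    rw [jj_mulVec]
    have h3 := jj_mulVec e' A' B x.2.1 x.2.2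
    rw [Prod.mk.eta] at h3
    rw [h3]
  have key : jj e (A, jj e' (A', B)) ∈ GU n F q ↔ ∀ x y : (Fin k → E) × ((Fin k → E) × (Fin m → F)),
      hform F q k m (A.1.mulVec x.1, (A'.1.mulVec x.2.1, B.1.mulVec x.2.2))
        (A.1.mulVec y.1, (A'.1.mulVec y.2.1, B.1.mulVec y.2.2)) = hform F q k m x y := by
    rw [GUBasic.mem_GU_iff]
    constructor
    · intro h x y
      have h1 := h (e (x.1, e' x.2)) (e (y.1, e' y.2))
      rw [h2, h2, he, he (A.1.mulVec x.1, (A'.1.mulVec x.2.1, B.1.mulVec x.2.2))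
        (A.1.mulVec y.1, (A'.1.mulVec y.2.1, B.1.mulVec y.2.2))] at h1
      exact h1
    · intro h u v
      obtain ⟨⟨x, x'⟩, rfl⟩ := e.surjective u
      obtain ⟨x', rfl⟩ := e'.surjective x'
      obtain ⟨⟨y, y'⟩, rfl⟩ := e.surjective v
      obtain ⟨y', rfl⟩ := e'.surjective y'
      have h3 := h (x, x') (y, y')
      have h4 := h2 (x, x')
      have h5 := h2 (y, y')
      have h6 := he (x, x') (y, y')
      rw [h4, h5, h6, he (A.1.mulVec x, (A'.1.mulVec x'.1, B.1.mulVec x'.2))
        (A.1.mulVec y, (A'.1.mulVec y'.1, B.1.mulVec y'.2))]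
      exact h3
  rw [key]
  constructor
  · intro h
    constructor
    · refine eq_dl_of_herm hθ fun u v => ?_
      rw [← sub_eq_zero]
      refine eq_zero_of_trace (F := F) _ fun c => ?_
      have h1 := h (c • u, (0, 0)) (0, (v, 0))
      unfold hform at h1
      simp only [Matrix.mulVec_zero, hm.zero_left, add_zero, Matrix.mulVec_smul, herm_smul_left, herm_zero_left,
        map_zero, zero_pow (by omega : q ≠ 0)] at h1
      rw [mul_sub, map_sub, h1, sub_self]
    · rw [GUBasic.mem_GU_iff]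
      intro u v
      have h1 := h (0, (0, u)) (0, (0, v))
      unfold hform at h1
      simp only [Matrix.mulVec_zero, herm_zero_left, map_zero, zero_add, zero_pow (by omega : q ≠ 0)] at h1
      exact h1
  · rintro ⟨rfl, hB⟩ x y
    unfold hform
    rw [GUBasic.mem_GU_iff] at hB
    simp only [herm_dl hθ]
    rw [hB]

/-- the norm commutes with the power map -/
theorem norm_symm (hF : Fintype.card F = q ^ 2) {θ : E ≃+* E} (hθ : ∀ x, θ x = x ^ q) (c : E) :
    Algebra.norm F (θ.symm c) = Algebra.norm F c ^ q := by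
  have h1 : Algebra.norm F c = Algebra.norm F (θ.symm c) ^ q := by
    rw [← map_pow, ← hθ, θ.apply_symm_apply]
  rw [h1, ← pow_mul, ← sq, ← hF, FiniteField.pow_card]

theorem sum_two_mul (g : ℕ) (G : ℕ → ℕ) :
    ∑ i ∈ Finset.range (2 * g), G i = ∑ j ∈ Finset.range g, G (2 * j) + ∑ j ∈ Finset.range g, G (2 * j + 1) := by
  induction g with
  | zero => rfl
  | succ g ih =>
    rw [Nat.mul_succ, Finset.sum_range_succ, Finset.sum_range_succ, ih, Finset.sum_range_succ, Finset.sum_range_succ]
    omega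

/-- **G1, even case**: the centralizer in `GU_n(q)` of the semisimple element `(z, z*⁻¹, 1)`. -/
theorem exists_even {K : Type*} [Field K] [Algebra E K] [Algebra F K] [IsScalarTower F E K]
    (hF : Fintype.card F = q ^ 2) (hE : finrank F E = g) (hn : n = 2 * g * k + m) (z : Eˣ)
    (hz : ∀ i : ℕ, (z⁻¹) ^ q ≠ z ^ ((q ^ 2) ^ i)) (hzE : Algebra.adjoin F {(z : E)} = ⊤) :
    ∃ j : GL (Fin k) E × GU m F q →* GU n F q, Function.Injective j ∧
      j.range = Subgroup.centralizer ({j (scl k z, 1)} : Set (GU n F q)) ∧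
      (∀ (u : GL (Fin k) E) (y : GU m F q) (x : Kˣ) (l : ℕ),
        mcol (((j (u, y) : GU n F q) : GL (Fin n) F) : Matrix (Fin n) (Fin n) F) (x : K) l =
          ∑ i ∈ Finset.range (2 * g), mcol (u : Matrix (Fin k) (Fin k) E)
            ((x ^ ((-(q : ℤ)) ^ i) : Kˣ) : K) l +
          mcol ((y : GL (Fin m) F) : Matrix (Fin m) (Fin m) F) (x : K) l) ∧
      ∀ (u : GL (Fin k) E) (y : GU m F q),
        Matrix.GeneralLinearGroup.det ((j (u, y) : GU n F q) : GL (Fin n) F) =
          nrm F E (Matrix.GeneralLinearGroup.det u) * (nrm F E (Matrix.GeneralLinearGroup.det u) ^ q)⁻¹ *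
            Matrix.GeneralLinearGroup.det (y : GL (Fin m) F) := by
  have hq := GUBasic.two_le hF
  obtain ⟨σ, hσ⟩ := GUBasic.exists_powHom hF
  obtain ⟨θ₀, hθ₀⟩ := exists_powHom hF E
  let θ : E ≃+* E := RingEquiv.ofBijective θ₀ ⟨θ₀.injective, Finite.injective_iff_surjective.1 θ₀.injective⟩
  have hθ : ∀ x, θ x = x ^ q := hθ₀
  have hfin : Module.Finite F E := inferInstance
  have hdim : finrank F ((Fin k → E) × ((Fin k → E) × (Fin m → F))) = n := by
    rw [Module.finrank_prod, Module.finrank_prod, Module.finrank_pi_fintype, finrank_fin_fun, hn, hE]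
    simp
    ring
  obtain ⟨e₀, he₀⟩ := (hermF_hform (E := E) (k := k) (m := m) hF hσ).exists_iso (sigma_ne hF hσ) (sigma_sigma hF hσ) hσ hdim
  obtain ⟨r, hr⟩ : ∃ r, r = finrank F ((Fin k → E) × (Fin m → F)) := ⟨_, rfl⟩
  let e' : ((Fin k → E) × (Fin m → F)) ≃ₗ[F] (Fin r → F) := LinearEquiv.ofFinrankEq _ _ (by rw [finrank_fin_fun, hr])
  let e : ((Fin k → E) × (Fin r → F)) ≃ₗ[F] (Fin n → F) := ((LinearEquiv.refl F (Fin k → E)).prodCongr e'.symm).trans e₀
  have he : ∀ x y : (Fin k → E) × ((Fin k → E) × (Fin m → F)),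
      hermForm n F q (e (x.1, e' x.2)) (e (y.1, e' y.2)) = hform F q k m x y := by
    intro x y
    have h1 : ∀ x : (Fin k → E) × ((Fin k → E) × (Fin m → F)), e (x.1, e' x.2) = e₀ x := by
      intro x
      show e₀ (x.1, e'.symm (e' x.2)) = e₀ x
      rw [e'.symm_apply_apply]
    rw [h1, h1, he₀]
  have hmem := fun A A' B => mem_J_iff hF hθ e' e he A A' B
  let j : GL (Fin k) E × GU m F q →* GU n F q :=
    { toFun := fun x => ⟨J θ e' e (x.1, (x.2 : GL (Fin m) F)), (hmem _ _ _).2 ⟨rfl, x.2.2⟩⟩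
      map_one' := Subtype.ext (map_one (J θ e' e))
      map_mul' := fun x y => Subtype.ext (map_mul (J θ e' e) (x.1, (x.2 : GL (Fin m) F)) (y.1, (y.2 : GL (Fin m) F))) }
  have hj : ∀ x, ((j x : GU n F q) : GL (Fin n) F) = J θ e' e (x.1, (x.2 : GL (Fin m) F)) := fun _ => rfl
  -- the second eigenvalue
  let z' : Eˣ := Units.mapEquiv θ.symm.toMulEquiv z⁻¹
  have hz'q : z' ^ q = z⁻¹ := by
    apply Units.ext
    rw [Units.val_pow_eq_pow_val, ← hθ]
    exact θ.apply_symm_apply _
  have hdlz : dl θ (scl k z) = scl k z' := by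
    symm
    refine eq_dl_of_herm hθ fun u v => ?_
    rw [H901.Sl.scl_mulVec, H901.Sl.scl_mulVec, herm_smul_left, herm_smul_right, ← mul_assoc]
    have h3 : (z : E) * (z' : E) ^ q = 1 := by
      rw [← Units.val_pow_eq_pow_val, hz'q, ← Units.val_mul, mul_inv_cancel, Units.val_one]
    rw [h3, one_mul]
  have hcardF : Nat.card F = q ^ 2 := by rw [Nat.card_eq_fintype_card, hF]
  have hz'1 : z' ≠ 1 := by
    intro h
    rw [h, one_pow] at hz'q
    have h1 : z = 1 := inv_eq_one.1 hz'q.symm
    exact hz 0 (by rw [h1, inv_one, one_pow, one_pow])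
  have hz'E : Algebra.adjoin F {(z' : E)} = ⊤ := by
    rw [eq_top_iff, ← hzE]
    refine Algebra.adjoin_le ?_
    rw [Set.singleton_subset_iff]
    have h1 : (((z⁻¹ : Eˣ) : E)) ∈ Algebra.adjoin F {(z' : E)} := by
      rw [← hz'q, Units.val_pow_eq_pow_val]
      exact pow_mem (Algebra.self_mem_adjoin_singleton F _) _
    have h2 : z = (z⁻¹) ^ (orderOf (z⁻¹) - 1) := by
      have h3 : (z⁻¹) ^ (orderOf (z⁻¹) - 1) * z⁻¹ = 1 := by
        rw [← pow_succ, Nat.sub_add_cancel (orderOf_pos _), pow_orderOf_eq_one]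
      exact (eq_of_mul_inv_eq_one (by rw [h3])).symm
    rw [h2, Units.val_pow_eq_pow_val]
    exact pow_mem h1 _
  -- no common eigenvalues
  have hroot : ∀ t : E, aeval t (minpoly F (z : E)) = 0 → ∃ i : ℕ, t = (z : E) ^ ((q ^ 2) ^ i) := by
    intro t ht
    obtain ⟨i, hi⟩ := exists_conj_pow (F := F) (z : E) t ht
    exact ⟨i, by rw [hi, hcardF]⟩
  have hp1 : aeval (1 : F) (minpoly F (z : E)) ≠ 0 := by
    intro h
    have h1 : aeval (1 : E) (minpoly F (z : E)) = 0 := by
      rw [← map_one (algebraMap F E), aeval_algebraMap_apply, h, map_zero]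
    obtain ⟨i, hi⟩ := hroot 1 h1
    have h2 : z ^ ((q ^ 2) ^ i) = 1 := by
      apply Units.ext
      rw [Units.val_pow_eq_pow_val, ← hi, Units.val_one]
    have h3 : z = 1 := by
      have h4 : Function.Injective (fun a : E => a ^ ((q ^ 2) ^ i)) := by
        have h5 : (fun a : E => a ^ ((q ^ 2) ^ i)) = fun a : E => (fro F E ^ i) a := by
          funext a
          rw [fro_pow, hcardF]
        rw [h5]
        exact (fro F E ^ i).injective
      apply Units.ext
      apply h4
      show (z : E) ^ ((q ^ 2) ^ i) = ((1 : Eˣ) : E) ^ ((q ^ 2) ^ i)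
      rw [Units.val_one, one_pow, ← hi]
    exact hz 0 (by rw [h3, inv_one, one_pow, one_pow])
  have hpz' : aeval (z' : E) (minpoly F (z : E)) ≠ 0 := by
    intro h
    obtain ⟨i, hi⟩ := hroot _ h
    have h1 : z' = z ^ ((q ^ 2) ^ i) := Units.ext (by rw [Units.val_pow_eq_pow_val, hi])
    apply hz (i + 1)
    rw [← hz'q, ← pow_mul, h1, ← pow_mul]
    congr 1
    ring
  refine ⟨j, ?_, ?_, ?_, ?_⟩
  · rintro ⟨a, b⟩ ⟨a', b'⟩ h
    have h1 := J_injective θ e' e (congrArg Subtype.val h)
    rw [Prod.mk.injEq] at h1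
    exact Prod.ext h1.1 (Subtype.ext h1.2)
  · ext x
    rw [Subgroup.mem_centralizer_singleton_iff]
    constructor
    · rintro ⟨y, rfl⟩
      rw [← map_mul, ← map_mul]
      congr 1
      refine Prod.ext ?_ ?_
      · show y.1 * scl k z = scl k z * y.1
        apply H901.Sl.ext_mulVec
        intro v
        rw [Units.val_mul, Units.val_mul, ← Matrix.mulVec_mulVec, ← Matrix.mulVec_mulVec, H901.Sl.scl_mulVec,
          H901.Sl.scl_mulVec, Matrix.mulVec_smul]
      · show y.2 * 1 = 1 * y.2
        rw [mul_one, one_mul]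
    · intro h
      have h1 : (x : GL (Fin n) F) * jj e (scl k z, jj e' (scl k z', 1)) =
          jj e (scl k z, jj e' (scl k z', 1)) * (x : GL (Fin n) F) := by
        have h2 : ((j (scl k z, 1) : GU n F q) : GL (Fin n) F) = jj e (scl k z, jj e' (scl k z', 1)) := by
          rw [hj, J_apply, hdlz]
          rfl
        rw [← h2]
        exact congrArg Subtype.val h
      obtain ⟨A, C, hAC, hC⟩ := cent_jj e z hzE (jj e' (scl k z', 1)) (minpoly F (z : E)) (minpoly.aeval F (z : E))
        (fun w hw => by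
          obtain ⟨⟨v, w⟩, rfl⟩ := e'.surjective w
          rw [aeval_jj_scl, LinearEquiv.map_eq_zero_iff, Prod.mk_eq_zero] at hw
          rw [(smul_eq_zero.1 hw.1).resolve_left hpz', (smul_eq_zero.1 hw.2).resolve_left hp1]
          exact map_zero e') _ h1
      have h3 : C ∈ Subgroup.centralizer ({jj e' (scl k z', 1)} : Set (GL (Fin r) F)) :=
        Subgroup.mem_centralizer_singleton_iff.2 hC
      rw [← H901.Sl.centralizer_jj e' z' hz'1 hz'E] at h3
      obtain ⟨⟨A', B⟩, rfl⟩ := h3
      have h4 : jj e (A, jj e' (A', B)) ∈ GU n F q := by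
        rw [hAC]
        exact x.2
      obtain ⟨rfl, hB⟩ := (hmem A A' B).1 h4
      exact ⟨(A, ⟨B, hB⟩), Subtype.ext hAC⟩
  · intro u y x l
    obtain ⟨θK, hθK⟩ := exists_powHom hF K
    rw [hj, J_apply, mcol_jj (K := K), mcol_jj (K := K), hE, hcardF, sum_two_mul, ← add_assoc]
    congr 2
    · refine Finset.sum_congr rfl fun i _ => ?_
      have h3 : (-(q : ℤ)) ^ (2 * i) = (((q ^ 2) ^ i : ℕ) : ℤ) := by
        rw [pow_mul, neg_sq]
        push_cast
        rfl
      rw [h3, zpow_natCast, Units.val_pow_eq_pow_val]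
    · refine Finset.sum_congr rfl fun i _ => ?_
      have h3 : (-(q : ℤ)) ^ (2 * i + 1) = -(((q ^ 2) ^ i * q : ℕ) : ℤ) := by
        rw [pow_succ, pow_mul, neg_sq]
        push_cast
        ring
      rw [mcol_inv θK hθK (dl_eq hθ u) (pow_ne_zero _ x.ne_zero), h3, zpow_neg, zpow_natCast, Units.val_inv_eq_inv_val,
        Units.val_pow_eq_pow_val, ← pow_mul]
  · intro u y
    rw [hj, J_apply, H901.Sl.det_jj, H901.Sl.det_jj, ← mul_assoc]
    congr 2
    apply Units.ext
    show Algebra.norm F ((dl θ u).1.det) = _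
    have h1 : (dl θ u).1.det = θ.symm ((u⁻¹).1.det) := by
      rw [dl_val]
      have h2 : (u⁻¹).1.transpose.map θ.symm = (θ.symm : E →+* E).mapMatrix (u⁻¹).1.transpose := rfl
      rw [h2, ← RingHom.map_det, Matrix.det_transpose]
      rfl
    rw [h1, norm_symm hF hθ]
    have h3 : (u⁻¹).1.det = ((Matrix.GeneralLinearGroup.det u)⁻¹ : Eˣ) := by
      rw [← map_inv]
      rfl
    have h4 : Algebra.norm F (((Matrix.GeneralLinearGroup.det u)⁻¹ : Eˣ) : E) =
        (((nrm F E (Matrix.GeneralLinearGroup.det u))⁻¹ : Fˣ) : F) := by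
      rw [← map_inv]
      rfl
    rw [h3, h4, ← Units.val_pow_eq_pow_val, inv_pow]

end hyp

end Cfsg.Agent.H166.GUC
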