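import Cfsg.Agent.H166.GUC.Herm

/-!
# S4537, G1 (odd case): `GU_k(q ^ f) × GU_m(q)` in `GU_n(q)`, `n = f k + m`, `f` odd (helper166)
-/

set_option autoImplicit false
set_option linter.unusedSectionVars false

namespace Cfsg.Agent.H166.GUC

open Module Cfsg.Agent.ClassicalGeometry Cfsg.Agent.H615.GU Cfsg.Agent.H624.Sl
open scoped MatrixGroups

universe u

section sc

variable {E : Type*} [Field E] {Q₀ : ℕ}

/-- the scalar matrix in the unitary group -/
noncomputable def gsc (k : ℕ) (z : Eˣ) (hz : z ^ (Q₀ + 1) = 1) : GU k E Q₀ :=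
  ⟨scl k z, by
    rw [GUBasic.mem_GU_iff]
    intro u v
    show hermForm k E Q₀ ((Matrix.scalar (Fin k) (z : E)).mulVec u) ((Matrix.scalar (Fin k) (z : E)).mulVec v) = _
    rw [scalar_mulVec', scalar_mulVec', GUBasic.hermForm_apply, GUBasic.hermForm_apply]
    refine Finset.sum_congr rfl fun i _ => ?_
    have h : (z : E) ^ (Q₀ + 1) = 1 := by
      rw [← Units.val_pow_eq_pow_val, hz, Units.val_one]
    rw [Pi.smul_apply, Pi.smul_apply, smul_eq_mul, smul_eq_mul, mul_pow]
    rw [pow_succ] at h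
    calc (z : E) * u i * ((z : E) ^ Q₀ * v i ^ Q₀) = ((z : E) ^ Q₀ * z) * (u i * v i ^ Q₀) := by ring
      _ = _ := by rw [h, one_mul]⟩

theorem coe_gsc (k : ℕ) (z : Eˣ) (hz : z ^ (Q₀ + 1) = 1) : (gsc k z hz : GL (Fin k) E) = scl k z := rfl

/-- the columns of unitary matrices -/
theorem mcol_gu {K : Type*} [Field K] [Algebra E K] [Fintype E] (hE : Fintype.card E = Q₀ ^ 2) {k : ℕ} (u : GU k E Q₀)
    (x : Kˣ) : mcol ((u : GL (Fin k) E) : Matrix (Fin k) (Fin k) E) ((x ^ (-(Q₀ : ℤ)) : Kˣ) : K) =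
      mcol ((u : GL (Fin k) E) : Matrix (Fin k) (Fin k) E) (x : K) := by
  obtain ⟨θ, hθ⟩ := exists_powHom hE K
  have hq := GUBasic.two_le hE
  have h1 := GUBasic.transpose_mul_map (by omega) ((GUBasic.mem_GU_iff _).1 u.2)
  have h2 : ((((u : GL (Fin k) E) : Matrix (Fin k) (Fin k) E)).map (fun x => x ^ Q₀)).transpose *
      ((u : GL (Fin k) E) : Matrix (Fin k) (Fin k) E) = 1 := by
    rw [← Matrix.transpose_transpose ((u : GL (Fin k) E) : Matrix (Fin k) (Fin k) E)]
    rw [Matrix.transpose_transpose ((u : GL (Fin k) E) : Matrix (Fin k) (Fin k) E)]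
    have h3 := congrArg Matrix.transpose h1
    rw [Matrix.transpose_mul, Matrix.transpose_transpose, Matrix.transpose_one] at h3
    exact h3
  rw [mcol_inv θ hθ h2 x.ne_zero, zpow_neg, zpow_natCast, Units.val_inv_eq_inv_val, Units.val_pow_eq_pow_val]

end sc

section per

/-- sums over the orbit of `x ↦ x ^ (-q)` for `f` odd -/
theorem sum_orbit_odd {K : Type*} [Field K] {q f : ℕ} (hf : Odd f) (g : K → ℕ)
    (hg : ∀ x : Kˣ, g ((x ^ (-((q ^ f : ℕ) : ℤ)) : Kˣ) : K) = g (x : K)) (x : Kˣ) :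
    ∑ i ∈ Finset.range f, g ((x : K) ^ ((q ^ 2) ^ i)) =
      ∑ i ∈ Finset.range f, g ((x ^ ((-(q : ℤ)) ^ i) : Kˣ) : K) := by
  -- the periodic function
  set G : ℕ → ℕ := fun i => g ((x ^ ((-(q : ℤ)) ^ i) : Kˣ) : K) with hG
  have hper : ∀ i, G (i + f) = G i := by
    intro i
    rw [hG]
    show g ((x ^ ((-(q : ℤ)) ^ (i + f)) : Kˣ) : K) = _
    rw [pow_add, zpow_mul]
    have h1 : (-(q : ℤ)) ^ f = -((q ^ f : ℕ) : ℤ) := by
      rw [hf.neg_pow]
      push_cast
      rfl
    rw [h1, hg]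
  have hmod : ∀ i, G (i % f) = G i := by
    intro i
    conv_rhs => rw [← Nat.mod_add_div i f]
    generalize i / f = t
    induction t with
    | zero => rw [mul_zero, add_zero]
    | succ t ih => rw [Nat.mul_succ, ← add_assoc, hper, ih]
  have h2 : ∀ i, g ((x : K) ^ ((q ^ 2) ^ i)) = G (2 * i) := by
    intro i
    rw [hG]
    show _ = g ((x ^ ((-(q : ℤ)) ^ (2 * i)) : Kˣ) : K)
    have h3 : (-(q : ℤ)) ^ (2 * i) = (((q ^ 2) ^ i : ℕ) : ℤ) := by
      rw [pow_mul, neg_sq]
      push_cast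
      rfl
    rw [h3, zpow_natCast, Units.val_pow_eq_pow_val]
  rw [Finset.sum_congr rfl fun i _ => h2 i]
  have hf0 : 0 < f := hf.pos
  refine Finset.sum_bij (fun i _ => (2 * i) % f) ?_ ?_ ?_ ?_
  · intro i _
    exact Finset.mem_range.2 (Nat.mod_lt _ hf0)
  · intro i hi j hj h
    have h3 : 2 * i ≡ 2 * j [MOD f] := h
    have h4 : i ≡ j [MOD f] := Nat.ModEq.cancel_left_of_coprime hf.coprime_two_right h3
    have h5 := Nat.ModEq.eq_of_lt_of_lt h4 (Finset.mem_range.1 hi) (Finset.mem_range.1 hj)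
    exact h5
  · intro i hi
    have hi' := Finset.mem_range.1 hi
    obtain ⟨j, hj⟩ := hf
    by_cases hev : Even i
    · obtain ⟨c, hc⟩ := hev
      refine ⟨c, Finset.mem_range.2 (by omega), ?_⟩
      rw [Nat.mod_eq_of_lt (by omega)]
      omega
    · rw [Nat.not_even_iff_odd] at hev
      obtain ⟨c, hc⟩ := hev
      refine ⟨(i + f) / 2, Finset.mem_range.2 (by omega), ?_⟩
      have h3 : 2 * ((i + f) / 2) = i + f := by omega
      rw [h3, Nat.add_mod_right, Nat.mod_eq_of_lt hi']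
  · intro i _
    exact (hmod (2 * i)).symm

end per

section odd

variable {F E : Type u} [Field F] [Fintype F] [Field E] [Finite E] [Algebra F E] {q : ℕ} {f k m n : ℕ}

/-- the trace form -/
noncomputable def tform (F : Type u) [Field F] [Algebra F E] (q f k m : ℕ) (x y : (Fin k → E) × (Fin m → F)) : F :=
  Algebra.trace F E (hermForm k E (q ^ f) x.1 y.1) + hermForm m F q x.2 y.2

theorem hermF_tform (hF : Fintype.card F = q ^ 2) (hf : Odd f) (hE : finrank F E = f) {σ : F →+* F}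
    (hσ : ∀ x, σ x = x ^ q) : HermF σ (tform (E := E) F q f k m) := by
  let := Fintype.ofFinite E
  have hcE : Fintype.card E = (q ^ f) ^ 2 := by
    rw [Module.card_eq_pow_finrank (K := F) (V := E), hE, hF, ← pow_mul, ← pow_mul, mul_comm]
  obtain ⟨τ, hτ⟩ := GUBasic.exists_powHom hcE
  have hk := hermForm_hermF hcE hτ k
  have hm := hermForm_hermF hF hσ m
  constructor
  · intro u u' v
    unfold tform
    rw [Prod.fst_add, Prod.snd_add, hk.add, hm.add, map_add]
    ring
  · intro c u v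
    unfold tform
    have h1 : (c • u).1 = (algebraMap F E c) • u.1 := by
      rw [Prod.smul_fst, algebraMap_smul]
    rw [h1, Prod.smul_snd, hk.smul, hm.smul, ← Algebra.smul_def, map_smul, smul_eq_mul]
    ring
  · intro u v
    unfold tform
    rw [hk.symm u.1 v.1, hτ, trace_pow_odd hF hf, hm.symm u.2 v.2, map_add, hσ (Algebra.trace F E _)]
  · intro u hu
    refine Prod.ext (hk.nd _ fun w => ?_) (hm.nd _ fun w => ?_)
    · refine eq_zero_of_trace (F := F) _ fun c => ?_
      have h1 := hu (τ c • w, 0)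
      unfold tform at h1
      rw [hm.zero_right, add_zero, hk.smul_right, sigma_sigma hcE hτ] at h1
      exact h1
    · have h1 := hu (0, w)
      unfold tform at h1
      rw [hk.zero_right, map_zero, zero_add] at h1
      exact h1

theorem mem_jj_iff (hF : Fintype.card F = q ^ 2) (hf : Odd f) (hE : finrank F E = f)
    (e : ((Fin k → E) × (Fin m → F)) ≃ₗ[F] (Fin n → F))
    (he : ∀ x y, hermForm n F q (e x) (e y) = tform F q f k m x y) (A : GL (Fin k) E) (B : GL (Fin m) F) :
    jj e (A, B) ∈ GU n F q ↔ A ∈ GU k E (q ^ f) ∧ B ∈ GU m F q := by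
  let := Fintype.ofFinite E
  have hcE : Fintype.card E = (q ^ f) ^ 2 := by
    rw [Module.card_eq_pow_finrank (K := F) (V := E), hE, hF, ← pow_mul, ← pow_mul, mul_comm]
  obtain ⟨τ, hτ⟩ := GUBasic.exists_powHom hcE
  obtain ⟨σ, hσ⟩ := GUBasic.exists_powHom hF
  have hk := hermForm_hermF hcE hτ k
  have hm := hermForm_hermF hF hσ m
  have key : jj e (A, B) ∈ GU n F q ↔ ∀ x y : (Fin k → E) × (Fin m → F),
      tform F q f k m (A.1.mulVec x.1, B.1.mulVec x.2) (A.1.mulVec y.1, B.1.mulVec y.2) = tform F q f k m x y := by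
    rw [GUBasic.mem_GU_iff]
    constructor
    · intro h x y
      have h1 := h (e x) (e y)
      have h2 : ∀ x : (Fin k → E) × (Fin m → F), ((jj e (A, B) : GL (Fin n) F) : Matrix (Fin n) (Fin n) F).mulVec (e x) =
          e (A.1.mulVec x.1, B.1.mulVec x.2) := fun x => jj_mulVec e A B x.1 x.2
      rw [h2, h2, he, he] at h1
      exact h1
    · intro h u v
      obtain ⟨x, rfl⟩ := e.surjective u
      obtain ⟨y, rfl⟩ := e.surjective v
      have h2 : ∀ x : (Fin k → E) × (Fin m → F), ((jj e (A, B) : GL (Fin n) F) : Matrix (Fin n) (Fin n) F).mulVec (e x) =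
          e (A.1.mulVec x.1, B.1.mulVec x.2) := fun x => jj_mulVec e A B x.1 x.2
      rw [h2, h2, he, he]
      exact h x y
  rw [key]
  constructor
  · intro h
    constructor
    · rw [GUBasic.mem_GU_iff]
      intro u v
      rw [← sub_eq_zero]
      refine eq_zero_of_trace (F := F) _ fun c => ?_
      have h1 := h (c • u, 0) (v, 0)
      unfold tform at h1
      simp only [Matrix.mulVec_zero, hm.zero_left, add_zero, Matrix.mulVec_smul, hk.smul] at h1
      rw [mul_sub, map_sub, h1, sub_self]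
    · rw [GUBasic.mem_GU_iff]
      intro u v
      have h1 := h (0, u) (0, v)
      unfold tform at h1
      simp only [Matrix.mulVec_zero, hk.zero_left, map_zero, zero_add] at h1
      exact h1
  · rintro ⟨hA, hB⟩ x y
    unfold tform
    rw [GUBasic.mem_GU_iff] at hA hB
    rw [hA, hB]

/-- **G1, odd case**: the centralizer in `GU_n(q)` of the semisimple element `(z, …, z, 1, …, 1)`, `z ^ (q ^ f + 1) = 1`. -/
theorem exists_odd {K : Type*} [Field K] [Algebra E K] [Algebra F K] [IsScalarTower F E K]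
    (hF : Fintype.card F = q ^ 2) (hf : Odd f) (hE : finrank F E = f) (hn : n = f * k + m) (z : Eˣ)
    (hz : z ^ (q ^ f + 1) = 1) (hz1 : z ≠ 1) (hzE : Algebra.adjoin F {(z : E)} = ⊤) :
    ∃ j : GU k E (q ^ f) × GU m F q →* GU n F q, Function.Injective j ∧
      j.range = Subgroup.centralizer ({j (gsc k z hz, 1)} : Set (GU n F q)) ∧
      (∀ (u : GU k E (q ^ f)) (y : GU m F q) (x : Kˣ) (l : ℕ),
        mcol (((j (u, y) : GU n F q) : GL (Fin n) F) : Matrix (Fin n) (Fin n) F) (x : K) l =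
          ∑ i ∈ Finset.range f, mcol ((u : GL (Fin k) E) : Matrix (Fin k) (Fin k) E)
            ((x ^ ((-(q : ℤ)) ^ i) : Kˣ) : K) l +
          mcol ((y : GL (Fin m) F) : Matrix (Fin m) (Fin m) F) (x : K) l) ∧
      ∀ (u : GU k E (q ^ f)) (y : GU m F q),
        Matrix.GeneralLinearGroup.det ((j (u, y) : GU n F q) : GL (Fin n) F) =
          nrm F E (Matrix.GeneralLinearGroup.det (u : GL (Fin k) E)) *
            Matrix.GeneralLinearGroup.det (y : GL (Fin m) F) := by
  let := Fintype.ofFinite E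
  have hcE : Fintype.card E = (q ^ f) ^ 2 := by
    rw [Module.card_eq_pow_finrank (K := F) (V := E), hE, hF, ← pow_mul, ← pow_mul, mul_comm]
  obtain ⟨σ, hσ⟩ := GUBasic.exists_powHom hF
  have hfin : Module.Finite F E := inferInstance
  have hdim : finrank F ((Fin k → E) × (Fin m → F)) = n := by
    rw [Module.finrank_prod, Module.finrank_pi_fintype, finrank_fin_fun, hn, hE]
    simp [mul_comm]
  obtain ⟨e, he⟩ := (hermF_tform (k := k) (m := m) hF hf hE hσ).exists_iso (sigma_ne hF hσ) (sigma_sigma hF hσ) hσ hdim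
  have hmem := fun A B => mem_jj_iff hF hf hE e he A B
  let j : GU k E (q ^ f) × GU m F q →* GU n F q :=
    { toFun := fun x => ⟨jj e ((x.1 : GL (Fin k) E), (x.2 : GL (Fin m) F)), (hmem _ _).2 ⟨x.1.2, x.2.2⟩⟩
      map_one' := Subtype.ext (map_one (jj e))
      map_mul' := fun x y => Subtype.ext (map_mul (jj e) ((x.1 : GL (Fin k) E), (x.2 : GL (Fin m) F))
        ((y.1 : GL (Fin k) E), (y.2 : GL (Fin m) F))) }
  have hj : ∀ x, ((j x : GU n F q) : GL (Fin n) F) = jj e ((x.1 : GL (Fin k) E), (x.2 : GL (Fin m) F)) := fun _ => rfl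
  refine ⟨j, ?_, ?_, ?_, ?_⟩
  · rintro ⟨a, b⟩ ⟨a', b'⟩ h
    have h1 := H901.Sl.jj_injective e (congrArg Subtype.val h)
    rw [Prod.mk.injEq] at h1
    exact Prod.ext (Subtype.ext h1.1) (Subtype.ext h1.2)
  · have hcen := H901.Sl.centralizer_jj e z hz1 hzE
    ext g
    rw [Subgroup.mem_centralizer_singleton_iff]
    constructor
    · rintro ⟨x, rfl⟩
      apply Subtype.ext
      have h1 : jj e ((x.1 : GL (Fin k) E), (x.2 : GL (Fin m) F)) ∈
          Subgroup.centralizer ({jj e (scl k z, 1)} : Set (GL (Fin n) F)) := by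
        rw [← hcen]
        exact ⟨_, rfl⟩
      exact Subgroup.mem_centralizer_singleton_iff.1 h1
    · intro h
      have h1 : (g : GL (Fin n) F) ∈ Subgroup.centralizer ({jj e (scl k z, 1)} : Set (GL (Fin n) F)) :=
        Subgroup.mem_centralizer_singleton_iff.2 (congrArg Subtype.val h)
      rw [← hcen] at h1
      obtain ⟨⟨A, B⟩, hAB⟩ := h1
      have h2 : jj e (A, B) ∈ GU n F q := by
        rw [hAB]
        exact g.2
      obtain ⟨hA, hB⟩ := (hmem A B).1 h2
      exact ⟨(⟨A, hA⟩, ⟨B, hB⟩), Subtype.ext hAB⟩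
  · intro u y x l
    have h1 := mcol_jj (K := K) e (u : GL (Fin k) E) (y : GL (Fin m) F) (x : K) l
    rw [hj]
    rw [h1, hE, Nat.card_eq_fintype_card, hF]
    congr 1
    exact sum_orbit_odd hf (fun t => mcol ((u : GL (Fin k) E) : Matrix (Fin k) (Fin k) E) t l)
      (fun t => by
        show mcol _ _ l = mcol _ _ l
        rw [mcol_gu hcE]) x
  · intro u y
    rw [hj]
    exact H901.Sl.det_jj e _ _

end odd

end Cfsg.Agent.H166.GUC
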