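import Cfsg.Agent.H901.Sl.JJ
import Cfsg.Agent.H615.GU.ColOf

/-!
# S4537, G1: the columns of block matrices and of matrices over an extension field (helper166)

* `colOf_map`, `colOf_transpose`, `colOf_mul`: invariance of the columns of a matrix;
* `mcol_inv`: the columns of the inverse of the conjugate transpose;
* `mcol_jj`: the columns of `jj e (A, B)`.
-/

set_option autoImplicit false
set_option linter.unusedSectionVars false

namespace Cfsg.Agent.H166.GUC

open Module Cfsg.Agent.H615.GU Cfsg.Agent.H624.Sl

section col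

variable {K L : Type*} [Field K] [Field L] {n n' : ℕ}

theorem rank_pow_add (M : Matrix (Fin n) (Fin n) K) (i : ℕ) :
    (M ^ i).rank + finrank K (LinearMap.ker (Matrix.toLin' M ^ i)) = n := by
  have h := LinearMap.finrank_range_add_finrank_ker (Matrix.toLin' M ^ i)
  rw [finrank_fin_fun] at h
  have h2 : (M ^ i).rank = finrank K (LinearMap.range (Matrix.toLin' M ^ i)) := by
    rw [← Matrix.toLin'_pow]
    rfl
  rw [h2, h]

theorem colOf_add_rank (M : Matrix (Fin n) (Fin n) K) (i : ℕ) :
    colOf (Matrix.toLin' M) i + (M ^ (i + 1)).rank = (M ^ i).rank := by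
  have h1 := rank_pow_add M i
  have h2 := rank_pow_add M (i + 1)
  have h3 := colOf_add (Matrix.toLin' M) i
  omega

theorem colOf_congr {M : Matrix (Fin n) (Fin n) K} {N : Matrix (Fin n') (Fin n') L}
    (h : ∀ i, (M ^ i).rank = (N ^ i).rank) : colOf (Matrix.toLin' M) = colOf (Matrix.toLin' N) := by
  ext i
  have h1 := colOf_add_rank M i
  have h2 := colOf_add_rank N i
  have h3 := h i
  have h4 := h (i + 1)
  omega

/-- the rank of a square matrix is unchanged by extension of the field -/
theorem rank_map (f : K →+* L) (A : Matrix (Fin n) (Fin n) K) : (A.map f).rank = A.rank := by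
  classical
  obtain ⟨M, M', D, h⟩ := Matrix.Pivot.exists_list_transvec_mul_diagonal_mul_list_transvec A
  set B := (M.map Matrix.TransvectionStruct.toMatrix).prod with hB
  set B' := (M'.map Matrix.TransvectionStruct.toMatrix).prod with hB'
  have hBd : B.det = 1 := Matrix.TransvectionStruct.det_toMatrix_prod M
  have hB'd : B'.det = 1 := Matrix.TransvectionStruct.det_toMatrix_prod M'
  have h1 : A.rank = (Matrix.diagonal D).rank := by
    rw [h, Matrix.rank_mul_eq_left_of_isUnit_det _ _ (by rw [hB'd]; exact isUnit_one),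
      Matrix.rank_mul_eq_right_of_isUnit_det _ _ (by rw [hBd]; exact isUnit_one)]
  have hBd' : (B.map f).det = 1 := by
    have := (RingHom.map_det f B).symm
    rw [RingHom.mapMatrix_apply] at this
    rw [this, hBd, map_one]
  have hB'd' : (B'.map f).det = 1 := by
    have := (RingHom.map_det f B').symm
    rw [RingHom.mapMatrix_apply] at this
    rw [this, hB'd, map_one]
  have h2 : (A.map f).rank = (Matrix.diagonal (fun i => f (D i))).rank := by
    rw [h, Matrix.map_mul, Matrix.map_mul, Matrix.rank_mul_eq_left_of_isUnit_det _ _ (by rw [hB'd']; exact isUnit_one),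
      Matrix.rank_mul_eq_right_of_isUnit_det _ _ (by rw [hBd']; exact isUnit_one), Matrix.diagonal_map (map_zero f)]
  rw [h1, h2, Matrix.rank_diagonal, Matrix.rank_diagonal]
  refine Fintype.card_congr (Equiv.subtypeEquivRight fun i => ?_)
  rw [Ne, Ne, map_eq_zero]

theorem colOf_map (f : K →+* L) (M : Matrix (Fin n) (Fin n) K) :
    colOf (Matrix.toLin' (M.map f)) = colOf (Matrix.toLin' M) := by
  refine colOf_congr fun i => ?_
  have h1 : (M.map f) ^ i = (M ^ i).map f := (map_pow (f.mapMatrix (m := Fin n)) M i).symm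
  rw [h1, rank_map]

theorem colOf_transpose (M : Matrix (Fin n) (Fin n) K) :
    colOf (Matrix.toLin' M.transpose) = colOf (Matrix.toLin' M) := by
  refine colOf_congr fun i => ?_
  rw [← Matrix.transpose_pow, Matrix.rank_transpose]

theorem colOf_mul {U M : Matrix (Fin n) (Fin n) K} (hU : IsUnit U) (h : Commute U M) :
    colOf (Matrix.toLin' (U * M)) = colOf (Matrix.toLin' M) := by
  refine colOf_congr fun i => ?_
  rw [h.mul_pow, Matrix.rank_mul_eq_right_of_isUnit_det]
  exact (Matrix.isUnit_iff_isUnit_det _).1 (hU.pow i)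

end col

section mcol

variable {E K : Type*} [Field E] [Field K] [Algebra E K] {k : ℕ}

/-- the columns are constant on the orbits of automorphisms over the base field -/
theorem mcol_map (f : K →ₐ[E] K) (A : Matrix (Fin k) (Fin k) E) (x : K) : mcol A (f x) = mcol A x := by
  have h : A.map (algebraMap E K) - Matrix.scalar (Fin k) (f x) =
      (A.map (algebraMap E K) - Matrix.scalar (Fin k) x).map (f : K →+* K) := by
    ext i j
    rw [Matrix.sub_apply, Matrix.map_apply, Matrix.map_apply, Matrix.sub_apply, Matrix.map_apply, Matrix.scalar_apply,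
      Matrix.scalar_apply, map_sub]
    congr 1
    · exact (f.commutes _).symm
    · by_cases hij : i = j
      · subst hij
        rw [Matrix.diagonal_apply_eq, Matrix.diagonal_apply_eq]
        rfl
      · rw [Matrix.diagonal_apply_ne _ hij, Matrix.diagonal_apply_ne _ hij, map_zero]
  unfold mcol
  rw [h, colOf_map]

/-- the columns of the inverse of the conjugate transpose -/
theorem mcol_inv {A A' : Matrix (Fin k) (Fin k) E} {q : ℕ} (θ : K →+* K) (hθ : ∀ x, θ x = x ^ q)
    (h : (A'.map (fun x => x ^ q)).transpose * A = 1) {y : K} (hy : y ≠ 0) :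
    mcol A' y = mcol A ((y ^ q)⁻¹) := by
  have hy0 : y ^ q ≠ 0 := pow_ne_zero _ hy
  set AK := A.map (algebraMap E K) with hAK
  set C := ((A'.map (fun x => x ^ q)).transpose).map (algebraMap E K) with hC
  have hCA : C * AK = 1 := by
    rw [hC, hAK, ← Matrix.map_mul, h]
    exact Matrix.map_one _ (map_zero _) (map_one _)
  have hAC : AK * C = 1 := mul_eq_one_comm.1 hCA
  have h1 : ((A'.map (algebraMap E K) - Matrix.scalar (Fin k) y).map θ).transpose = C - Matrix.scalar (Fin k) (y ^ q) := by
    ext i j
    rw [Matrix.transpose_apply, Matrix.map_apply, Matrix.sub_apply, Matrix.sub_apply, map_sub, hC, Matrix.map_apply,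
      Matrix.map_apply, Matrix.transpose_apply, Matrix.map_apply, hθ, map_pow]
    congr 1
    rw [Matrix.scalar_apply, Matrix.scalar_apply]
    by_cases hij : i = j
    · subst hij
      rw [Matrix.diagonal_apply_eq, Matrix.diagonal_apply_eq, hθ]
    · rw [Matrix.diagonal_apply_ne _ hij, Matrix.diagonal_apply_ne _ (Ne.symm hij), map_zero]
  have h2 : C - Matrix.scalar (Fin k) (y ^ q) =
      (Matrix.scalar (Fin k) (-(y ^ q)) * C) * (AK - Matrix.scalar (Fin k) ((y ^ q)⁻¹)) := by
    have h3 : Matrix.scalar (Fin k) (-(y ^ q)) * Matrix.scalar (Fin k) ((y ^ q)⁻¹) = (-1 : Matrix (Fin k) (Fin k) K) := by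
      rw [← map_mul, neg_mul, mul_inv_cancel₀ hy0, map_neg, map_one]
    have h4 : Commute (Matrix.scalar (Fin k) ((y ^ q)⁻¹)) C := Matrix.scalar_commute _ (fun _ => Commute.all _ _) _
    rw [mul_sub, mul_assoc, hCA, mul_one, mul_assoc, ← h4.eq, ← mul_assoc, h3, neg_one_mul, map_neg]
    abel
  have hU : IsUnit (Matrix.scalar (Fin k) (-(y ^ q)) * C) := by
    refine IsUnit.mul ?_ ⟨⟨C, AK, hCA, hAC⟩, rfl⟩
    exact (IsUnit.mk0 _ (neg_ne_zero.2 hy0)).map (Matrix.scalar (Fin k))
  have hcom : Commute (Matrix.scalar (Fin k) (-(y ^ q)) * C) (AK - Matrix.scalar (Fin k) ((y ^ q)⁻¹)) := by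
    have h5 : Commute C AK := by
      show C * AK = AK * C
      rw [hCA, hAC]
    have h6 : ∀ a : K, ∀ M : Matrix (Fin k) (Fin k) K, Commute (Matrix.scalar (Fin k) a) M :=
      fun a M => Matrix.scalar_commute _ (fun _ => Commute.all _ _) _
    exact ((h6 _ _).mul_left h5).sub_right ((h6 _ _).symm)
  unfold mcol
  rw [← colOf_map θ, ← colOf_transpose, h1, h2, colOf_mul hU hcom]

end mcol

section block

variable {K : Type*} [Field K]

/-- the direct sum of endomorphisms -/
def piE {ι : Type*} {V : Type*} [AddCommGroup V] [Module K V] (T : ι → (V →ₗ[K] V)) : (ι → V) →ₗ[K] (ι → V) :=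
  LinearMap.pi fun j => (T j).comp (LinearMap.proj j)

theorem piE_apply {ι : Type*} {V : Type*} [AddCommGroup V] [Module K V] (T : ι → (V →ₗ[K] V)) (v : ι → V) (j : ι) :
    piE T v j = T j (v j) := rfl

theorem piE_pow {ι : Type*} {V : Type*} [AddCommGroup V] [Module K V] (T : ι → (V →ₗ[K] V)) (i : ℕ) :
    piE T ^ i = piE fun j => T j ^ i := by
  induction i with
  | zero => rfl
  | succ i ih =>
    ext1 v
    funext j
    rw [pow_succ', Module.End.mul_apply, ih, piE_apply, piE_apply, piE_apply, pow_succ', Module.End.mul_apply]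

theorem finrank_ker_piE {ι : Type*} [Fintype ι] {V : Type*} [AddCommGroup V] [Module K V] [Module.Finite K V]
    (T : ι → (V →ₗ[K] V)) :
    finrank K (LinearMap.ker (piE T)) = ∑ j, finrank K (LinearMap.ker (T j)) := by
  rw [← Module.finrank_pi_fintype]
  refine LinearEquiv.finrank_eq
    { toFun := fun v j => ⟨v.1 j, by
        have h := LinearMap.mem_ker.1 v.2
        exact LinearMap.mem_ker.2 (congrFun h j)⟩
      map_add' := fun _ _ => rfl
      map_smul' := fun _ _ => rfl
      invFun := fun v => ⟨fun j => v j, LinearMap.mem_ker.2 (funext fun j => LinearMap.mem_ker.1 (v j).2)⟩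
      left_inv := fun _ => rfl
      right_inv := fun _ => rfl }

theorem prodMap_pow' {V W : Type*} [AddCommGroup V] [Module K V] [AddCommGroup W] [Module K W] (a : V →ₗ[K] V)
    (b : W →ₗ[K] W) (i : ℕ) : (a.prodMap b) ^ i = (a ^ i).prodMap (b ^ i) := by
  induction i with
  | zero => rfl
  | succ i ih =>
    rw [pow_succ', ih, pow_succ', pow_succ']
    rfl

/-- similar endomorphisms -/
theorem colOf_conj {V W : Type*} [AddCommGroup V] [Module K V] [AddCommGroup W] [Module K W] [Module.Finite K V]
    [Module.Finite K W] (e : V ≃ₗ[K] W) {T : V →ₗ[K] V} {S : W →ₗ[K] W} (h : ∀ v, e (T v) = S (e v)) :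
    colOf T = colOf S := by
  have hp : ∀ (i : ℕ) (v : V), e ((T ^ i) v) = (S ^ i) (e v) := by
    intro i
    induction i with
    | zero => intro v; rfl
    | succ i ih =>
      intro v
      rw [pow_succ', pow_succ', Module.End.mul_apply, Module.End.mul_apply, h, ih]
  have hk : ∀ i, finrank K (LinearMap.ker (T ^ i)) = finrank K (LinearMap.ker (S ^ i)) := by
    intro i
    have h1 : (LinearMap.ker (T ^ i)).map (e : V →ₗ[K] W) = LinearMap.ker (S ^ i) := by
      ext w
      constructor
      · rintro ⟨v, hv, rfl⟩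
        rw [LinearMap.mem_ker]
        show (S ^ i) (e v) = 0
        rw [← hp, LinearMap.mem_ker.1 hv, map_zero]
      · intro hw
        refine ⟨e.symm w, ?_, e.apply_symm_apply w⟩
        rw [SetLike.mem_coe, LinearMap.mem_ker]
        apply e.injective
        rw [hp, e.apply_symm_apply, LinearMap.mem_ker.1 hw, map_zero]
    rw [← h1]
    exact (LinearEquiv.finrank_map_eq e _).symm
  ext i
  have h1 := colOf_add T i
  have h2 := colOf_add S i
  rw [hk, hk] at h1
  omega

theorem finrank_ker_prod {V W : Type*} [AddCommGroup V] [Module K V] [AddCommGroup W] [Module K W]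
    [Module.Finite K V] [Module.Finite K W] (a : V →ₗ[K] V) (b : W →ₗ[K] W) :
    finrank K (LinearMap.ker (a.prodMap b)) = finrank K (LinearMap.ker a) + finrank K (LinearMap.ker b) := by
  rw [← Module.finrank_prod]
  refine LinearEquiv.finrank_eq
    { toFun := fun x => (⟨x.1.1, by
          have h := LinearMap.mem_ker.1 x.2
          exact congrArg Prod.fst h⟩, ⟨x.1.2, by
          have h := LinearMap.mem_ker.1 x.2
          exact congrArg Prod.snd h⟩)
      map_add' := fun x y => rfl
      map_smul' := fun c x => rfl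
      invFun := fun x => ⟨(x.1.1, x.2.1), by
        rw [LinearMap.mem_ker, LinearMap.prodMap_apply, LinearMap.mem_ker.1 x.1.2, LinearMap.mem_ker.1 x.2.2]
        rfl⟩
      left_inv := fun x => rfl
      right_inv := fun x => rfl }

theorem colOf_block {ι : Type*} [Fintype ι] {V W : Type*} [AddCommGroup V] [Module K V] [Module.Finite K V]
    [AddCommGroup W] [Module K W] [Module.Finite K W] (T : ι → (V →ₗ[K] V)) (S : W →ₗ[K] W) (i : ℕ) :
    colOf ((piE T).prodMap S) i = ∑ j, colOf (T j) i + colOf S i := by
  have h1 : ∀ i, finrank K (LinearMap.ker (((piE T).prodMap S) ^ i)) =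
      ∑ j, finrank K (LinearMap.ker (T j ^ i)) + finrank K (LinearMap.ker (S ^ i)) := by
    intro i
    rw [prodMap_pow', finrank_ker_prod, piE_pow, finrank_ker_piE]
  have h2 := colOf_add ((piE T).prodMap S) i
  rw [h1, h1] at h2
  have h3 : ∑ j, colOf (T j) i + ∑ j, finrank K (LinearMap.ker (T j ^ i)) =
      ∑ j, finrank K (LinearMap.ker (T j ^ (i + 1))) := by
    rw [← Finset.sum_add_distrib]
    exact Finset.sum_congr rfl fun j _ => colOf_add (T j) i
  have h4 := colOf_add S i
  omega

end block

section frob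

variable (F E : Type*) [Field F] [Finite F] [Field E] [Algebra F E] [Finite E]

/-- the Frobenius automorphism -/
noncomputable def fro : E ≃ₐ[F] E :=
  letI := Fintype.ofFinite F
  FiniteField.frobeniusAlgEquivOfAlgebraic F E

theorem fro_pow (j : ℕ) (a : E) : (fro F E ^ j) a = a ^ (Nat.card F ^ j) := by
  let := Fintype.ofFinite F
  rw [fro, AlgEquiv.coe_pow, FiniteField.coe_frobeniusAlgEquivOfAlgebraic_iterate, Nat.card_eq_fintype_card]

theorem fro_injective : Function.Injective (fun j : Fin (finrank F E) => fro F E ^ (j : ℕ)) := by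
  let := Fintype.ofFinite F
  exact (FiniteField.bijective_frobeniusAlgEquivOfAlgebraic_pow F E).1

theorem exists_fro_pow (g : E ≃ₐ[F] E) : ∃ j : ℕ, ∀ a, g a = a ^ (Nat.card F ^ j) := by
  let := Fintype.ofFinite F
  obtain ⟨j, hj⟩ := (FiniteField.bijective_frobeniusAlgEquivOfAlgebraic_pow F E).2 g
  refine ⟨j, fun a => ?_⟩
  rw [← fro_pow, ← hj]
  rfl

end frob

section em

variable (F E K : Type*) [Field F] [Finite F] [Field E] [Algebra F E] [Finite E] [Field K] [Algebra E K]

/-- the embeddings of `E`: inverse powers of the Frobenius automorphism -/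
noncomputable def em (j : ℕ) : E →+* K :=
  (algebraMap E K).comp (((fro F E)⁻¹ ^ j : E ≃ₐ[F] E) : E →+* E)

theorem em_apply (j : ℕ) (a : E) : em F E K j a = algebraMap E K (((fro F E)⁻¹ ^ j) a) := rfl

theorem em_pow (j : ℕ) (a : E) : (em F E K j a) ^ (Nat.card F ^ j) = algebraMap E K a := by
  rw [em_apply, ← map_pow, ← fro_pow, inv_pow, ← AlgEquiv.mul_apply, mul_inv_cancel, AlgEquiv.one_apply]

theorem em_algebraMap [Algebra F K] [IsScalarTower F E K] (j : ℕ) (a : F) :
    em F E K j (algebraMap F E a) = algebraMap F K a := by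
  rw [em_apply, AlgEquiv.commutes, ← IsScalarTower.algebraMap_apply]

theorem linearIndependent_em : LinearIndependent K (fun j : Fin (finrank F E) => (em F E K j : E → K)) := by
  have h := linearIndependent_monoidHom E K
  refine h.comp (fun j : Fin (finrank F E) => ((em F E K j : E →+* K) : E →* K)) ?_
  intro i j hij
  have h1 : (fro F E)⁻¹ ^ (i : ℕ) = (fro F E)⁻¹ ^ (j : ℕ) := by
    apply AlgEquiv.ext
    intro a
    apply (algebraMap E K).injective
    exact DFunLike.congr_fun hij a
  rw [inv_pow, inv_pow, inv_inj] at h1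
  exact fro_injective F E h1

end em

section bc

universe u

variable {F E : Type u} [Field F] [Finite F] [Field E] [Algebra F E] [Finite E] {K : Type*} [Field K] [Algebra E K]
  [Algebra F K] [IsScalarTower F E K] {k m n : ℕ}

/-- the coordinates over `K` of an element of `E ^ k × F ^ m` -/
noncomputable def psi (F E K : Type*) [Field F] [Finite F] [Field E] [Algebra F E] [Finite E] [Field K] [Algebra E K]
    [Algebra F K] [IsScalarTower F E K] (k m : ℕ) :
    ((Fin k → E) × (Fin m → F)) →ₗ[F] ((Fin (finrank F E) → Fin k → K) × (Fin m → K)) where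
  toFun v := (fun j c => em F E K j (v.1 c), fun d => algebraMap F K (v.2 d))
  map_add' v w := by
    refine Prod.ext ?_ ?_
    · funext j c
      exact map_add _ _ _
    · funext d
      exact map_add _ _ _
  map_smul' a v := by
    refine Prod.ext ?_ ?_
    · funext j c
      show em F E K j (a • v.1 c) = a • em F E K j (v.1 c)
      rw [Algebra.smul_def, map_mul, em_algebraMap, ← Algebra.smul_def]
    · funext d
      show algebraMap F K (a • v.2 d) = a • algebraMap F K (v.2 d)
      rw [smul_eq_mul, map_mul, ← Algebra.smul_def]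

/-- the extension of `psi` to `K ^ n` -/
noncomputable def Psi (K : Type*) [Field K] [Algebra E K] [Algebra F K] [IsScalarTower F E K]
    (e : ((Fin k → E) × (Fin m → F)) ≃ₗ[F] (Fin n → F)) :
    (Fin n → K) →ₗ[K] ((Fin (finrank F E) → Fin k → K) × (Fin m → K)) :=
  (Pi.basisFun K (Fin n)).constr K fun i => psi F E K k m (e.symm (Pi.single i 1))

theorem Psi_apply (e : ((Fin k → E) × (Fin m → F)) ≃ₗ[F] (Fin n → F)) (v : Fin n → K) :
    Psi K e v = ∑ i, v i • psi F E K k m (e.symm (Pi.single i 1)) := by
  rw [Psi, Module.Basis.constr_apply_fintype]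
  rfl

theorem Psi_map (e : ((Fin k → E) × (Fin m → F)) ≃ₗ[F] (Fin n → F)) (v : Fin n → F) :
    Psi K e (fun i => algebraMap F K (v i)) = psi F E K k m (e.symm v) := by
  rw [Psi_apply]
  conv_rhs => rw [← (Pi.basisFun F (Fin n)).sum_repr v]
  rw [map_sum, map_sum]
  refine Finset.sum_congr rfl fun i _ => ?_
  rw [map_smul, map_smul, Pi.basisFun_repr, Pi.basisFun_apply, algebraMap_smul]

/-- the block diagonal endomorphism -/
noncomputable def DD (F : Type u) [Field F] [Finite F] (A : Matrix (Fin k) (Fin k) E) [Algebra F E] [Algebra F K]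
    [IsScalarTower F E K] (B : Matrix (Fin m) (Fin m) F) (x : K) :
    ((Fin (finrank F E) → Fin k → K) × (Fin m → K)) →ₗ[K] ((Fin (finrank F E) → Fin k → K) × (Fin m → K)) :=
  (piE fun j : Fin (finrank F E) => Matrix.toLin' (A.map (em F E K j) - Matrix.scalar (Fin k) x)).prodMap
    (Matrix.toLin' (B.map (algebraMap F K) - Matrix.scalar (Fin m) x))

theorem scalar_mulVec' {r : ℕ} (x : K) (v : Fin r → K) : (Matrix.scalar (Fin r) x).mulVec v = x • v := by
  funext i
  rw [Matrix.scalar_apply, Matrix.mulVec_diagonal]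
  rfl

theorem map_mulVec' {R S : Type*} [CommRing R] [CommRing S] {r : ℕ} (f : R →+* S) (A : Matrix (Fin r) (Fin r) R)
    (v : Fin r → R) : (A.map f).mulVec (fun i => f (v i)) = fun i => f (A.mulVec v i) := by
  funext i
  simp only [Matrix.mulVec, dotProduct, Matrix.map_apply, map_sum, map_mul]

theorem DD_psi (A : GL (Fin k) E) (B : GL (Fin m) F) (x : K) (v : (Fin k → E) × (Fin m → F)) :
    DD (K := K) F A.1 B.1 x (psi F E K k m v) =
      psi F E K k m (A.1.mulVec v.1, B.1.mulVec v.2) - x • psi F E K k m v := by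
  refine Prod.ext ?_ ?_
  · funext j
    show (A.1.map (em F E K j) - Matrix.scalar (Fin k) x).mulVec (fun c => em F E K j (v.1 c)) =
      (fun c => em F E K j (A.1.mulVec v.1 c)) - x • (fun c => em F E K j (v.1 c))
    rw [Matrix.sub_mulVec, map_mulVec', scalar_mulVec']
  · show (B.1.map (algebraMap F K) - Matrix.scalar (Fin m) x).mulVec (fun c => algebraMap F K (v.2 c)) =
      (fun c => algebraMap F K (B.1.mulVec v.2 c)) - x • (fun c => algebraMap F K (v.2 c))
    rw [Matrix.sub_mulVec, map_mulVec', scalar_mulVec']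

theorem Psi_conj (e : ((Fin k → E) × (Fin m → F)) ≃ₗ[F] (Fin n → F)) (A : GL (Fin k) E) (B : GL (Fin m) F) (x : K)
    (v : Fin n → K) : Psi K e (Matrix.toLin' ((jj e (A, B)).1.map (algebraMap F K) - Matrix.scalar (Fin n) x) v) =
      DD F A.1 B.1 x (Psi K e v) := by
  have h : (Psi K e).comp (Matrix.toLin' ((jj e (A, B)).1.map (algebraMap F K) - Matrix.scalar (Fin n) x)) =
      (DD F A.1 B.1 x).comp (Psi K e) := by
    refine (Pi.basisFun K (Fin n)).ext fun i => ?_
    have h1 : (Pi.basisFun K (Fin n)) i = fun c => algebraMap F K ((Pi.single i 1 : Fin n → F) c) := by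
      funext c
      rw [Pi.basisFun_apply]
      by_cases hc : c = i
      · subst hc
        simp
      · rw [Pi.single_eq_of_ne hc, Pi.single_eq_of_ne hc, map_zero]
    rw [LinearMap.comp_apply, LinearMap.comp_apply, h1, Psi_map, DD_psi, Matrix.toLin'_apply, Matrix.sub_mulVec,
      map_mulVec', scalar_mulVec', map_sub, map_smul, Psi_map, Psi_map]
    congr 2
    obtain ⟨w, hw⟩ := e.surjective (Pi.single i 1)
    rw [← hw, e.symm_apply_apply]
    have h2 := jj_mulVec e A B w.1 w.2
    rw [Prod.mk.eta] at h2
    rw [h2, e.symm_apply_apply]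
  exact LinearMap.congr_fun h v

theorem Psi_surjective (e : ((Fin k → E) × (Fin m → F)) ≃ₗ[F] (Fin n → F)) : Function.Surjective (Psi K e) := by
  rw [← LinearMap.range_eq_top]
  by_contra hne
  obtain ⟨f, hf0, hf⟩ := Submodule.exists_le_ker_of_lt_top _ (lt_top_iff_ne_top.2 hne)
  have h0 : ∀ v, f (psi F E K k m v) = 0 := by
    intro v
    have h1 : psi F E K k m v = Psi K e (fun i => algebraMap F K (e v i)) := by
      rw [Psi_map, e.symm_apply_apply]
    rw [h1]
    exact hf ⟨_, rfl⟩
  apply hf0
  -- the coefficients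
  have hE : ∀ c : Fin k, ∀ j : Fin (finrank F E), f (Pi.single j (Pi.single c 1), 0) = 0 := by
    intro c
    have hlin := Fintype.linearIndependent_iff.1 (linearIndependent_em F E K)
      (fun j => f (Pi.single j (Pi.single c 1), 0)) (by
        funext a
        rw [Finset.sum_apply, Pi.zero_apply]
        have h1 := h0 (Pi.single c a, 0)
        have h2 : psi F E K k m (Pi.single c a, 0) =
            ∑ j : Fin (finrank F E), em F E K j a • ((Pi.single j (Pi.single c 1), 0) :
              (Fin (finrank F E) → Fin k → K) × (Fin m → K)) := by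
          refine Prod.ext ?_ ?_
          · rw [Prod.fst_sum]
            funext j c'
            rw [Finset.sum_apply, Finset.sum_apply, Finset.sum_eq_single j]
            · show em F E K j ((Pi.single c a : Fin k → E) c') =
                em F E K j a • ((Pi.single j (Pi.single c (1 : K)) : Fin (finrank F E) → Fin k → K) j c')
              rw [Pi.single_eq_same]
              by_cases hc : c' = c
              · subst hc
                rw [Pi.single_eq_same, Pi.single_eq_same, smul_eq_mul, mul_one]
              · rw [Pi.single_eq_of_ne hc, Pi.single_eq_of_ne hc, map_zero, smul_zero]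
            · intro j' _ hj'
              show em F E K j' a • ((Pi.single j' (Pi.single c (1 : K)) : Fin (finrank F E) → Fin k → K) j c') = 0
              rw [Pi.single_eq_of_ne (Ne.symm hj'), Pi.zero_apply, smul_zero]
            · intro h
              exact absurd (Finset.mem_univ _) h
          · rw [Prod.snd_sum]
            funext d
            rw [Finset.sum_apply]
            show algebraMap F K ((0 : Fin m → F) d) = _
            rw [Pi.zero_apply, map_zero]
            symm
            refine Finset.sum_eq_zero fun j _ => ?_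
            show em F E K j a • ((0 : Fin m → K) d) = 0
            rw [Pi.zero_apply, smul_zero]
        rw [h2, map_sum] at h1
        rw [← h1]
        refine Finset.sum_congr rfl fun j _ => ?_
        rw [map_smul, smul_eq_mul]
        show f _ * em F E K j a = _
        rw [mul_comm])
    exact hlin
  have hF : ∀ d : Fin m, f (0, Pi.single d 1) = 0 := by
    intro d
    have h1 := h0 (0, Pi.single d 1)
    have h2 : psi F E K k m (0, Pi.single d 1) = (0, Pi.single d 1) := by
      refine Prod.ext ?_ ?_
      · funext j c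
        exact map_zero _
      · funext d'
        show algebraMap F K ((Pi.single d 1 : Fin m → F) d') = (Pi.single d 1 : Fin m → K) d'
        by_cases hd : d' = d
        · subst hd
          rw [Pi.single_eq_same, map_one, Pi.single_eq_same]
        · rw [Pi.single_eq_of_ne hd, map_zero, Pi.single_eq_of_ne hd]
    rwa [h2] at h1
  apply LinearMap.prod_ext
  · refine LinearMap.pi_ext' fun j => LinearMap.pi_ext' fun c => LinearMap.ext_ring ?_
    exact hE c j
  · refine LinearMap.pi_ext' fun d => LinearMap.ext_ring ?_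
    exact hF d

/-- the linear equivalence -/
theorem exists_Psi (e : ((Fin k → E) × (Fin m → F)) ≃ₗ[F] (Fin n → F)) :
    ∃ P : (Fin n → K) ≃ₗ[K] ((Fin (finrank F E) → Fin k → K) × (Fin m → K)), ∀ v, P v = Psi K e v := by
  have hn : finrank K (Fin n → K) = finrank K ((Fin (finrank F E) → Fin k → K) × (Fin m → K)) := by
    have h1 := e.finrank_eq
    rw [Module.finrank_prod, Module.finrank_pi_fintype, finrank_fin_fun, finrank_fin_fun] at h1
    have h2 : finrank K (Fin (finrank F E) → Fin k → K) = ∑ _i : Fin (finrank F E), finrank K (Fin k → K) :=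
      Module.finrank_pi_fintype K
    rw [Module.finrank_prod, h2, finrank_fin_fun, finrank_fin_fun, finrank_fin_fun, ← h1]
    simp [mul_comm]
  exact ⟨LinearEquiv.ofBijective (Psi K e)
    ⟨(LinearMap.injective_iff_surjective_of_finrank_eq_finrank hn).2 (Psi_surjective e), Psi_surjective e⟩, fun _ => rfl⟩

theorem colOf_em (A : Matrix (Fin k) (Fin k) E) (x : K) (j : ℕ) :
    colOf (Matrix.toLin' (A.map (em F E K j) - Matrix.scalar (Fin k) x)) = mcol A (x ^ (Nat.card F ^ j)) := by
  -- the power map
  let := Fintype.ofFinite F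
  obtain ⟨φ, hφ⟩ : ∃ φ : K →+* K, ∀ a : K, φ a = a ^ (Nat.card F ^ j) := by
    refine ⟨((FiniteField.frobeniusAlgHom F K ^ j : K →ₐ[F] K) : K →+* K), fun a => ?_⟩
    show (FiniteField.frobeniusAlgHom F K ^ j) a = _
    rw [AlgHom.coe_pow, FiniteField.coe_frobeniusAlgHom, pow_iterate, Nat.card_eq_fintype_card]
  have h : (A.map (em F E K j) - Matrix.scalar (Fin k) x).map φ =
      A.map (algebraMap E K) - Matrix.scalar (Fin k) (x ^ (Nat.card F ^ j)) := by
    apply Matrix.ext
    intro a b
    rw [Matrix.map_apply, Matrix.sub_apply, Matrix.sub_apply, map_sub, Matrix.map_apply, Matrix.map_apply, hφ, em_pow,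
      Matrix.scalar_apply, Matrix.scalar_apply]
    congr 1
    by_cases hab : a = b
    · subst hab
      rw [Matrix.diagonal_apply_eq, Matrix.diagonal_apply_eq, hφ]
    · rw [Matrix.diagonal_apply_ne _ hab, Matrix.diagonal_apply_ne _ hab, map_zero]
  rw [← colOf_map φ, h]
  rfl

/-- **the columns of `jj e (A, B)`** -/
theorem mcol_jj (e : ((Fin k → E) × (Fin m → F)) ≃ₗ[F] (Fin n → F)) (A : GL (Fin k) E) (B : GL (Fin m) F) (x : K)
    (l : ℕ) : mcol (jj e (A, B)).1 x l =
      ∑ j ∈ Finset.range (finrank F E), mcol A.1 (x ^ (Nat.card F ^ j)) l + mcol B.1 x l := by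
  obtain ⟨P, hP⟩ := exists_Psi (K := K) e
  have h1 : mcol (jj e (A, B)).1 x = colOf (DD F A.1 B.1 x) := by
    unfold mcol
    exact colOf_conj P fun v => by rw [hP, hP, Psi_conj]
  have h2 : colOf (DD F A.1 B.1 x) l = ∑ j : Fin (finrank F E),
      colOf (Matrix.toLin' (A.1.map (em F E K j) - Matrix.scalar (Fin k) x)) l +
        colOf (Matrix.toLin' (B.1.map (algebraMap F K) - Matrix.scalar (Fin m) x)) l := by
    rw [DD]
    exact colOf_block _ _ l
  rw [h1, h2, Finset.sum_range]
  congr 1
  exact Finset.sum_congr rfl fun j _ => by rw [colOf_em]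

end bc

end Cfsg.Agent.H166.GUC
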