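import Cfsg.Agent.H156.Sl.LA2
import Cfsg.Agent.H166.GUC.Odd
import Cfsg.Agent.H186.Unitary

/-!
# S4537, LA2 for `GU_n(q)`: determinants of centralizers (helper166)

* `kd_eq_sum`: `dim ker f(x) ^ i` is the sum of the columns of `x` at the roots of `f`;
* `charpoly_splits`: the characteristic polynomial of `x` splits over `K` if `|Kˣ|` is divisible by all `(-q) ^ k - 1`;
* `isRoot_charpoly_iff`: its roots are the `y` with `mcol x y 0 ≠ 0`;
* `centralizer_le`: the centralizer of `x` in `GU_n(q)` is contained in the kernel of `α ∘ det`, if `αu ^ i = 1` for the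
  sizes `i` of all Jordan blocks of `x` (`αu z = α (z / z ^ q)`).
-/

set_option autoImplicit false
set_option linter.unusedSectionVars false

namespace Cfsg.Agent.H166.GUC

open Module Cfsg Cfsg.Agent.H615.GU Cfsg.Agent.H624.Sl Polynomial

section col

variable {F K : Type*} [Field F] [Field K] {n : ℕ}

theorem aeval_toLin' (M : Matrix (Fin n) (Fin n) F) (g : F[X]) :
    aeval (Matrix.toLin' M) g = Matrix.toLin' (aeval M g) :=
  aeval_algHom_apply (Matrix.toLinAlgEquiv' (R := F) (n := Fin n)).toAlgHom M g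

theorem finrank_ker_toLin' (M : Matrix (Fin n) (Fin n) F) :
    M.rank + finrank F (LinearMap.ker (Matrix.toLin' M)) = n := by
  have h := rank_pow_add M 1
  rwa [pow_one, pow_one] at h

theorem finrank_ker_aeval_map (φ : F →+* K) (M : Matrix (Fin n) (Fin n) F) (g : F[X]) :
    finrank K (LinearMap.ker (aeval (Matrix.toLin' (M.map φ)) (g.map φ))) =
      finrank F (LinearMap.ker (aeval (Matrix.toLin' M) g)) := by
  have h1 : aeval (M.map φ) (g.map φ) = (aeval M g).map φ := by
    have h2 : (algebraMap K (Matrix (Fin n) (Fin n) K)).comp φ =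
        (φ.mapMatrix (m := Fin n)).comp (algebraMap F (Matrix (Fin n) (Fin n) F)) := by
      ext a i j
      rw [RingHom.comp_apply, RingHom.comp_apply, RingHom.mapMatrix_apply, Matrix.map_apply,
        Matrix.algebraMap_matrix_apply, Matrix.algebraMap_matrix_apply]
      split_ifs
      · rfl
      · exact (map_zero φ).symm
    exact (map_aeval_eq_aeval_map h2 g M).symm
  rw [aeval_toLin', aeval_toLin', h1]
  have h3 := finrank_ker_toLin' (aeval M g)
  have h4 := finrank_ker_toLin' ((aeval M g).map φ)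
  rw [rank_map] at h4
  omega

variable {V : Type*} [AddCommGroup V] [Module K V] [FiniteDimensional K V]

theorem finrank_ker_mul (T : V →ₗ[K] V) {g h : K[X]} (hgh : IsCoprime g h) :
    finrank K (LinearMap.ker (aeval T (g * h))) =
      finrank K (LinearMap.ker (aeval T g)) + finrank K (LinearMap.ker (aeval T h)) := by
  rw [← sup_ker_aeval_eq_ker_aeval_mul_of_coprime T hgh, ← Submodule.finrank_sup_add_finrank_inf_eq,
    (disjoint_ker_aeval_of_isCoprime T hgh).eq_bot, finrank_bot, add_zero]

theorem finrank_ker_prods (T : V →ₗ[K] V) (i : ℕ) (s : Finset K) :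
    finrank K (LinearMap.ker (aeval T (∏ y ∈ s, (X - C y) ^ i))) =
      ∑ y ∈ s, finrank K (LinearMap.ker ((T - algebraMap K (End K V) y) ^ i)) := by
  classical
  induction s using Finset.induction_on with
  | empty =>
    rw [Finset.prod_empty, Finset.sum_empty, map_one]
    have h : LinearMap.ker (1 : End K V) = ⊥ := LinearMap.ker_id
    rw [h, finrank_bot]
  | insert y s hy ih =>
    rw [Finset.prod_insert hy, Finset.sum_insert hy, finrank_ker_mul T, ih]
    · rw [map_pow, map_sub, aeval_X, aeval_C]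
    · refine IsCoprime.prod_right fun z hz => ?_
      refine IsCoprime.pow ?_
      refine pairwise_coprime_X_sub_C Function.injective_id ?_
      rintro rfl
      exact hy hz

theorem finrank_ker_pow (T : V →ₗ[K] V) (i : ℕ) :
    finrank K (LinearMap.ker (T ^ i)) = ∑ j ∈ Finset.range i, colOf T j := by
  induction i with
  | zero =>
    rw [pow_zero, Finset.sum_range_zero]
    have h : LinearMap.ker (1 : End K V) = ⊥ := LinearMap.ker_id
    rw [h, finrank_bot]
  | succ i ih =>
    have h := colOf_add T i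
    rw [Finset.sum_range_succ, ← ih, ← h]
    exact add_comm _ _

theorem toLin'_scalar (y : K) :
    Matrix.toLin' (Matrix.scalar (Fin n) y) = algebraMap K (End K (Fin n → K)) y := by
  apply LinearMap.ext
  intro v
  rw [Matrix.toLin'_apply, scalar_mulVec']
  rfl

open Classical in
/-- the kernels of the powers of a separable polynomial -/
theorem kd_eq_sum [Algebra F K] (M : Matrix (Fin n) (Fin n) F) {f : F[X]} (hf : f.Separable)
    (hs : (f.map (algebraMap F K)).Splits) (i : ℕ) :
    finrank F (LinearMap.ker (aeval (Matrix.toLin' M) (f ^ i))) =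
      ∑ y ∈ (f.map (algebraMap F K)).roots.toFinset, ∑ j ∈ Finset.range i, mcol M y j := by
  have hnd : (f.map (algebraMap F K)).roots.Nodup := nodup_roots hf.map
  have h1 : f.map (algebraMap F K) = C (f.map (algebraMap F K)).leadingCoeff *
      ∏ y ∈ (f.map (algebraMap F K)).roots.toFinset, (X - C y) := by
    conv_lhs => rw [hs.eq_prod_roots]
    congr 1
    rw [Finset.prod_eq_multiset_prod, Multiset.toFinset_val, hnd.dedup]
  have hl : (f.map (algebraMap F K)).leadingCoeff ≠ 0 := by
    rw [leadingCoeff_ne_zero]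
    exact (map_ne_zero_iff (mapRingHom (algebraMap F K)) (map_injective _ (algebraMap F K).injective)).2 hf.ne_zero
  rw [← finrank_ker_aeval_map (algebraMap F K) M, Polynomial.map_pow]
  conv_lhs => rw [h1]
  rw [mul_pow, ← Finset.prod_pow, ← C_pow]
  have h2 : ∀ (T : (Fin n → K) →ₗ[K] (Fin n → K)) {c : K} (_ : c ≠ 0) (g : K[X]),
      LinearMap.ker (aeval T (C c * g)) = LinearMap.ker (aeval T g) := by
    intro T c hc g
    ext v
    rw [LinearMap.mem_ker, LinearMap.mem_ker, map_mul, aeval_C, Module.algebraMap_end_eq_smul_id,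
      Module.End.mul_apply, LinearMap.smul_apply, LinearMap.id_apply, smul_eq_zero_iff_right hc]
  rw [h2 _ (pow_ne_zero _ hl), finrank_ker_prods]
  refine Finset.sum_congr rfl fun y _ => ?_
  rw [finrank_ker_pow, mcol, map_sub, toLin'_scalar]

end col

section main

universe u

variable {F : Type u} [Field F] {K : Type*} [Field K] [Algebra F K] {n q : ℕ}

/-- an invertible matrix has no eigenvalue `0` -/
theorem mcol_zero (x : GL (Fin n) F) (i : ℕ) : mcol (x : Matrix (Fin n) (Fin n) F) (0 : K) i = 0 := by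
  have h1 := colOf_add_rank ((x : Matrix (Fin n) (Fin n) F).map (algebraMap F K)) i
  have hu : IsUnit ((x : Matrix (Fin n) (Fin n) F).map (algebraMap F K)) :=
    x.isUnit.map ((algebraMap F K).mapMatrix (m := Fin n))
  have h2 : ∀ j : ℕ, (((x : Matrix (Fin n) (Fin n) F).map (algebraMap F K)) ^ j).rank = n := by
    intro j
    rw [Matrix.rank_of_isUnit _ (hu.pow j), Fintype.card_fin]
  rw [h2, h2] at h1
  rw [mcol, map_zero, sub_zero]
  omega

/-- an exponent of an elementary divisor is the size of a Jordan block -/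
theorem exists_block [Finite F] (x : GL (Fin n) F)
    (hs : ((x : Matrix (Fin n) (Fin n) F).charpoly.map (algebraMap F K)).Splits) {f : F[X]} (hf : Irreducible f)
    {i : ℕ} (hi : kd x (f ^ (i + 2)) + kd x (f ^ i) ≠ 2 * kd x (f ^ (i + 1))) :
    ∃ y : Kˣ, aeval (y : K) f = 0 ∧ mcol (x : Matrix (Fin n) (Fin n) F) (y : K) i ≠
      mcol (x : Matrix (Fin n) (Fin n) F) (y : K) (i + 1) := by
  classical
  by_contra hcon
  push Not at hcon
  apply hi
  have hsep : f.Separable := PerfectField.separable_of_irreducible hf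
  by_cases hdv : f ∣ (x : Matrix (Fin n) (Fin n) F).charpoly
  · have hs' : (f.map (algebraMap F K)).Splits := Splits.of_dvd hs
      (map_ne_zero_iff (mapRingHom (algebraMap F K)) (map_injective _ (algebraMap F K).injective) |>.2
        (Matrix.charpoly_monic _).ne_zero) (Polynomial.map_dvd _ hdv)
    have hk : ∀ j, kd x (f ^ j) = _ := fun j => kd_eq_sum (K := K) x.1 hsep hs' j
    rw [hk, hk, hk]
    have h1 : ∀ y ∈ (f.map (algebraMap F K)).roots.toFinset, mcol (x : Matrix (Fin n) (Fin n) F) (y : K) i =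
        mcol (x : Matrix (Fin n) (Fin n) F) (y : K) (i + 1) := by
      intro y hy
      rcases eq_or_ne y 0 with rfl | hy0
      · rw [mcol_zero, mcol_zero]
      · refine hcon (Units.mk0 y hy0) ?_
        rw [Multiset.mem_toFinset, mem_roots'] at hy
        have h2 := hy.2
        rwa [IsRoot.def, eval_map_algebraMap] at h2
    have h2 := Finset.sum_congr rfl h1
    simp only [Finset.sum_range_succ, Finset.sum_add_distrib]
    rw [← h2]
    ring
  · -- the kernels are trivial
    have hz : ∀ j, kd x (f ^ j) = 0 := by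
      intro j
      have hco : IsCoprime (f ^ j) (x : Matrix (Fin n) (Fin n) F).charpoly :=
        ((hf.coprime_iff_not_dvd).2 hdv).pow_left
      have h1 := disjoint_ker_aeval_of_isCoprime (Matrix.toLin' (x : Matrix (Fin n) (Fin n) F)) hco
      have h2 : LinearMap.ker (aeval (Matrix.toLin' (x : Matrix (Fin n) (Fin n) F))
          (x : Matrix (Fin n) (Fin n) F).charpoly) = ⊤ := by
        rw [aeval_toLin', Matrix.aeval_self_charpoly, map_zero]
        exact LinearMap.ker_zero
      rw [h2, disjoint_top] at h1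
      unfold kd
      rw [h1, finrank_bot]
    rw [hz, hz, hz]

/-- **LA2 for `GU_n(q)`** -/
theorem centralizer_le [Fintype F] (hF : Fintype.card F = q ^ 2) (x : GU n F q)
    (hs : (((x : GL (Fin n) F) : Matrix (Fin n) (Fin n) F).charpoly.map (algebraMap F K)).Splits) (α : Fˣ →* ℂˣ)
    (h : ∀ (y : Kˣ) (i : ℕ), mcol ((x : GL (Fin n) F) : Matrix (Fin n) (Fin n) F) (y : K) i ≠
      mcol ((x : GL (Fin n) F) : Matrix (Fin n) (Fin n) F) (y : K) (i + 1) →
        ∀ z : Fˣ, α (z * (z ^ q)⁻¹) ^ (i + 1) = 1) :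
    Subgroup.centralizer ({x} : Set (GU n F q)) ≤ ((dch n α).comp (GU n F q).subtype).ker := by
  intro c hc
  rw [Subgroup.mem_centralizer_singleton_iff] at hc
  have hcx : (c : GL (Fin n) F) * (x : GL (Fin n) F) = (x : GL (Fin n) F) * (c : GL (Fin n) F) :=
    congrArg Subtype.val hc
  let β : Fˣ →* ℂˣ := α.comp (MonoidHom.id _ / powMonoidHom q)
  have hβ : ∀ z, β z = α (z * (z ^ q)⁻¹) := by
    intro z
    change α ((MonoidHom.id _ / powMonoidHom q : Fˣ →* Fˣ) z) = _
    rw [MonoidHom.div_apply, div_eq_mul_inv]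
    rfl
  have hle := Cfsg.Agent.H156.Sl.centralizer_le_of_kd (x : GL (Fin n) F) β (fun f hf i hi z => by
    obtain ⟨y, _, hy⟩ := exists_block (K := K) (x : GL (Fin n) F) hs hf hi
    rw [hβ]
    exact h y i hy z)
  -- Hilbert 90
  have hcs := (H186.mem_GU_iff_st hF _).1 c.2
  set M : Matrix (Fin n) (Fin n) F := ((c : GL (Fin n) F) : Matrix (Fin n) (Fin n) F) with hM
  have hcs' : M * H186.st q M = 1 := mul_eq_one_comm.1 hcs
  have hfin : Finite (Matrix (Fin n) (Fin n) F) := Matrix.instFinite F
  obtain ⟨k, hk1, hk2⟩ := H186.exists_pow_inv (s := M) (c : GL (Fin n) F).isUnit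
  have hst : H186.st q M = M ^ k := by
    calc H186.st q M = (M ^ k * M) * H186.st q M := by rw [hk1, one_mul]
      _ = M ^ k := by rw [mul_assoc, hcs', mul_one]
  have hmem : ∀ a ∈ Algebra.adjoin F {M}, H186.st q a ∈ Algebra.adjoin F {M} := by
    intro a ha
    induction ha using Algebra.adjoin_induction with
    | mem z hz =>
      rw [Set.mem_singleton_iff.1 hz, hst]
      exact Subalgebra.pow_mem _ (Algebra.self_mem_adjoin_singleton F M) k
    | algebraMap r => rw [H186.st_algebraMap hF]; exact Subalgebra.algebraMap_mem _ _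
    | add z w _ _ hz hw => rw [H186.st_add hF]; exact Subalgebra.add_mem _ hz hw
    | mul z w _ _ hz hw => rw [H186.st_mul hF]; exact Subalgebra.mul_mem _ hw hz
  have hcm := H186.adjoin_comm (K := F) M
  obtain ⟨d, hdS, hdu, hd⟩ := (H186.hilbert90_sub (Algebra.adjoin F {M}) hcm (fun a => H186.st q a) hmem
    (fun a _ b _ => H186.st_add hF a b)
    (fun a ha b hb => by rw [H186.st_mul hF, hcm _ (hmem b hb) _ (hmem a ha)])
    (fun a _ => H186.st_st hF a) (fun x => x ^ q) (H186.exists_pow_ne hF)
    (fun x => H186.st_algebraMap hF x)).1 M (Algebra.self_mem_adjoin_singleton F M) hcs'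
  obtain ⟨D, rfl⟩ := hdu
  -- `D` commutes with `x`
  have hDx : D ∈ Subgroup.centralizer ({(x : GL (Fin n) F)} : Set (GL (Fin n) F)) := by
    rw [Subgroup.mem_centralizer_singleton_iff]
    have h1 := H186.commute_adjoin (K := F) (s := M) (g := ((x : GL (Fin n) F) : Matrix (Fin n) (Fin n) F))
      (congrArg Units.val hcx).symm _ hdS
    exact Units.ext h1.symm
  have h1 := hle hDx
  rw [MonoidHom.mem_ker] at h1
  have h2 : β (Matrix.GeneralLinearGroup.det D) = 1 := h1
  rw [hβ] at h2
  rw [MonoidHom.mem_ker]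
  change α (Matrix.GeneralLinearGroup.det (c : GL (Fin n) F)) = 1
  rw [← h2]
  congr 1
  rw [eq_mul_inv_iff_mul_eq]
  apply Units.ext
  obtain ⟨σ, hσ⟩ := ClassicalGeometry.GUBasic.exists_powHom hF
  have h3 : (H186.st q (D : Matrix (Fin n) (Fin n) F)).det = (D : Matrix (Fin n) (Fin n) F).det ^ q := by
    have h4 : H186.st q (D : Matrix (Fin n) (Fin n) F) = ((D : Matrix (Fin n) (Fin n) F).map σ).transpose := by
      ext i j
      rw [H186.st_apply, Matrix.transpose_apply, Matrix.map_apply, hσ]
    rw [h4, Matrix.det_transpose]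
    have h5 := (RingHom.map_det σ (D : Matrix (Fin n) (Fin n) F)).symm
    rw [RingHom.mapMatrix_apply] at h5
    rw [h5, hσ]
  have h4 := congrArg Matrix.det hd
  rw [Matrix.det_mul, h3] at h4
  exact h4

/-- the roots of the characteristic polynomial -/
theorem isRoot_charpoly_iff (M : Matrix (Fin n) (Fin n) F) (y : K) :
    (M.charpoly.map (algebraMap F K)).IsRoot y ↔ mcol M y 0 ≠ 0 := by
  have h1 : mcol M y 0 = finrank K (LinearMap.ker (Matrix.toLin' (M.map (algebraMap F K) -
      Matrix.scalar (Fin n) y))) := by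
    have h2 := finrank_ker_pow (Matrix.toLin' (M.map (algebraMap F K) - Matrix.scalar (Fin n) y)) 1
    rw [pow_one, Finset.sum_range_one] at h2
    exact h2.symm
  rw [h1, ← Matrix.charpoly_map, IsRoot.def, Matrix.eval_charpoly, ← neg_sub, Matrix.det_neg,
    mul_eq_zero_iff_left (pow_ne_zero _ (neg_ne_zero.2 one_ne_zero)), ← Matrix.exists_mulVec_eq_zero_iff,
    Ne, Submodule.finrank_eq_zero, Submodule.eq_bot_iff]
  push Not
  constructor
  · rintro ⟨v, hv, h⟩
    exact ⟨v, h, hv⟩
  · rintro ⟨v, h, hv⟩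
    exact ⟨v, hv, h⟩

/-- the characteristic polynomial of a unitary matrix splits over a field with enough roots of unity -/
theorem charpoly_splits [Fintype F] [Finite K] (hF : Fintype.card F = q ^ 2) (x : GU n F q)
    (hK : ∀ k, 0 < k → k ≤ n → ((-(q : ℤ)) ^ k - 1) ∣ (Nat.card Kˣ : ℤ)) :
    (((x : GL (Fin n) F) : Matrix (Fin n) (Fin n) F).charpoly.map (algebraMap F K)).Splits := by
  classical
  set M : Matrix (Fin n) (Fin n) F := ((x : GL (Fin n) F) : Matrix (Fin n) (Fin n) F) with hM
  let L := AlgebraicClosure K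
  refine Splits.of_splits_map (algebraMap K L) (IsAlgClosed.splits _) fun y hy => ?_
  rw [Polynomial.map_map, ← IsScalarTower.algebraMap_eq F K L] at hy
  have h0 : M.charpoly.map (algebraMap F L) ≠ 0 := ((Matrix.charpoly_monic M).map _).ne_zero
  have hR : ∀ z : L, z ∈ (M.charpoly.map (algebraMap F L)).roots ↔ mcol M z 0 ≠ 0 := by
    intro z
    rw [mem_roots h0, isRoot_charpoly_iff]
  have hy0 : y ≠ 0 := by
    rintro rfl
    exact (hR 0).1 hy (mcol_zero (x : GL (Fin n) F) 0)
  let u : Lˣ := Units.mk0 y hy0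
  have hu : ∀ i : ℕ, (((u ^ ((-(q : ℤ)) ^ i) : Lˣ) : L)) ∈ (M.charpoly.map (algebraMap F L)).roots := by
    intro i
    induction i with
    | zero => rw [pow_zero, zpow_one]; exact hy
    | succ i ih =>
      rw [hR] at ih ⊢
      rw [pow_succ, zpow_mul, mcol_gu hF x]
      exact ih
  obtain ⟨i, j, hij, hjn, he⟩ : ∃ i j : ℕ, i < j ∧ j ≤ n ∧ u ^ ((-(q : ℤ)) ^ i) = u ^ ((-(q : ℤ)) ^ j) := by
    by_contra hcon
    push Not at hcon
    have hinj : Set.InjOn (fun i : ℕ => (((u ^ ((-(q : ℤ)) ^ i) : Lˣ) : L))) (Finset.range (n + 1) : Set ℕ) := by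
      intro i hi j hj h
      have h' : u ^ ((-(q : ℤ)) ^ i) = u ^ ((-(q : ℤ)) ^ j) := Units.ext h
      rw [Finset.mem_coe, Finset.mem_range] at hi hj
      rcases lt_trichotomy i j with h1 | h1 | h1
      · exact absurd h' (hcon i j h1 (by omega))
      · exact h1
      · exact absurd h'.symm (hcon j i h1 (by omega))
    have h1 : (Finset.range (n + 1)).card ≤ (M.charpoly.map (algebraMap F L)).roots.toFinset.card := by
      refine Finset.card_le_card_of_injOn _ (fun i _ => ?_) hinj
      rw [Finset.mem_coe, Multiset.mem_toFinset]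
      exact hu i
    have h2 := Multiset.toFinset_card_le (M.charpoly.map (algebraMap F L)).roots
    have h3 := Polynomial.card_roots' (M.charpoly.map (algebraMap F L))
    have h4 : (M.charpoly.map (algebraMap F L)).natDegree = n := by
      rw [natDegree_map, Matrix.charpoly_natDegree_eq_dim, Fintype.card_fin]
    rw [Finset.card_range] at h1
    omega
  -- the `q`-power map is injective
  obtain ⟨φ, hφ⟩ := exists_powHom hF L
  have hinj : ∀ (i : ℕ) (a b : Lˣ), a ^ ((-(q : ℤ)) ^ i) = b ^ ((-(q : ℤ)) ^ i) → a = b := by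
    intro i
    induction i with
    | zero => intro a b h; rwa [pow_zero, zpow_one, zpow_one] at h
    | succ i ih =>
      intro a b h
      rw [pow_succ, zpow_mul, zpow_mul, zpow_neg, zpow_neg, inv_inj, zpow_natCast, zpow_natCast] at h
      refine ih a b ?_
      apply Units.ext
      apply φ.injective
      rw [hφ, hφ]
      exact congrArg Units.val h
  have hk : u ^ ((-(q : ℤ)) ^ (j - i)) = u := by
    refine hinj i _ _ ?_
    rw [← zpow_mul, ← pow_add, Nat.sub_add_cancel hij.le, he]
  have hM1 : u ^ ((Nat.card Kˣ : ℤ)) = 1 := by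
    obtain ⟨c, hc⟩ := hK (j - i) (by omega) (by omega)
    rw [hc, zpow_mul, zpow_sub_one, hk, mul_inv_cancel, one_zpow]
  have hc : Nat.card K = Nat.card Kˣ + 1 := by
    rw [Nat.card_units, Nat.sub_add_cancel Nat.card_pos]
  refine (Polynomial.splits_X_pow_nat_card_sub_X (K := K)).mem_range_of_isRoot ?_ ?_
  · exact FiniteField.X_pow_card_sub_X_ne_zero K Finite.one_lt_card
  · rw [IsRoot.def, Polynomial.map_sub, Polynomial.map_pow, map_X, eval_sub, eval_pow, eval_X, sub_eq_zero, hc,
      pow_succ]
    rw [zpow_natCast] at hM1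
    have h1 : y ^ Nat.card Kˣ = 1 := congrArg Units.val hM1
    rw [h1, one_mul]

end main

end Cfsg.Agent.H166.GUC
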