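import Cfsg.Agent.H166.GUC.Even
import Cfsg.Agent.H166.GUC.Cent
import Cfsg.Agent.H794.GUT.Bridge

/-!
# S4537, LA2' for `GU_n(q)`: determinants of centralizers (helper166)

* `exists_typ`: all types of the right degree occur in a `TypeData`;
* `mcol_algHom`: the columns at the image of an eigenvalue under an embedding;
* `exists_gl_block`, `exists_gu_block`: a single Jordan block in `GL_(i+1)(E)` and in `GU_(i+1)(E)`;
* `pow_eq_one`: if the centralizer of `x` in `GU_n(q)` is contained in the kernel of `α ∘ det` then `αu ^ i = 1` for the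
  sizes `i` of all Jordan blocks of `x` (`αu z = α (z / z ^ q)`).
-/

set_option autoImplicit false
set_option linter.unusedSectionVars false

namespace Cfsg.Agent.H166.GUC

open Module Cfsg Cfsg.Agent.H615.GU Cfsg.Agent.H624.Sl Polynomial
open Cfsg.Agent.H794.GUT (OI Phi dd mp typeDataO typeDataO_typ orbEquiv orbEquiv_mk dOrb_eq Phi_zpow)
open scoped MatrixGroups

section gen

/-- all types occur -/
theorem exists_typ {I : Type*} {d : I → ℕ} {Q : ℤ} {G : Type*} [Group G] [Finite G] {n : ℕ} (T : TypeData d Q G n)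
    {lam : Ty I} (h : tdeg d lam = n) : ∃ g, T.typ g = lam := by
  by_contra hcon
  push Not at hcon
  have h1 := T.card lam h
  have h2 : IsEmpty {g : G // T.typ g = lam} := ⟨fun g => hcon g.1 g.2⟩
  rw [Nat.card_of_isEmpty, Nat.cast_zero, zero_mul] at h1
  exact Nat.card_pos.ne' (Nat.cast_eq_zero.1 h1.symm)

/-- the columns at the image of an eigenvalue under an embedding -/
theorem mcol_algHom {F E L : Type*} [Field F] [Field E] [Field L] [Algebra F E] [Algebra F L] (φ : E →ₐ[F] L) {k : ℕ}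
    (A : Matrix (Fin k) (Fin k) F) (x : E) : mcol A (φ x) = mcol A x := by
  have h : A.map (algebraMap F L) - Matrix.scalar (Fin k) (φ x) =
      (A.map (algebraMap F E) - Matrix.scalar (Fin k) x).map (φ : E →+* L) := by
    ext i j
    rw [Matrix.sub_apply, Matrix.map_apply, Matrix.map_apply, Matrix.sub_apply, Matrix.map_apply, Matrix.scalar_apply,
      Matrix.scalar_apply, map_sub]
    congr 1
    · exact (φ.commutes _).symm
    · by_cases hij : i = j
      · subst hij
        rw [Matrix.diagonal_apply_eq, Matrix.diagonal_apply_eq]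
        rfl
      · rw [Matrix.diagonal_apply_ne _ hij, Matrix.diagonal_apply_ne _ hij, map_zero]
  unfold mcol
  rw [h, colOf_map]

/-- the partition with one row of length `i + 1` -/
noncomputable def rowc (i : ℕ) : Col :=
  ⟨Finsupp.onFinset (Finset.range (i + 1)) (fun j => if j ≤ i then 1 else 0) (fun j hj => by
    rw [Finset.mem_range]
    by_contra h
    exact hj (if_neg (by omega))), fun a b hab => by
    rw [Finsupp.onFinset_apply, Finsupp.onFinset_apply]
    split_ifs <;> omega⟩

theorem rowc_apply (i j : ℕ) : rowc i j = if j ≤ i then 1 else 0 := rfl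

theorem size_rowc (i : ℕ) : (rowc i).size = i + 1 := by
  have h : (rowc i).size ≤ max (rowc i).size (i + 1) := le_max_left _ _
  rw [Col.size_eq_sum_range h]
  have h2 : ∀ b, i + 1 ≤ b → ∑ j ∈ Finset.range b, rowc i j = i + 1 := by
    intro b hb
    simp only [rowc_apply]
    rw [Finset.sum_ite, Finset.sum_const_zero, add_zero, Finset.sum_const, smul_eq_mul, mul_one]
    have h3 : (Finset.range b).filter (fun j => j ≤ i) = Finset.range (i + 1) := by
      ext j
      rw [Finset.mem_filter, Finset.mem_range, Finset.mem_range]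
      omega
    rw [h3, Finset.card_range]
  exact h2 _ (le_max_right _ _)

theorem rowc_ne_zero (i : ℕ) : rowc i ≠ 0 := by
  intro h
  have h1 := size_rowc i
  rw [h, Col.size_zero] at h1
  omega

/-- removal of a row -/
theorem exists_sub_row {c : Col} {i : ℕ} (h : c i ≠ c (i + 1)) :
    ∃ c' : Col, (∀ j, c j = c' j + rowc i j) ∧ c.size = c'.size + (i + 1) := by
  have h1 : c (i + 1) < c i := lt_of_le_of_ne (c.anti (Nat.le_succ i)) (Ne.symm h)
  have hle : ∀ j, rowc i j ≤ c j := by
    intro j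
    rw [rowc_apply]
    split_ifs with hj
    · have := c.anti hj
      omega
    · exact Nat.zero_le _
  let c' : Col := ⟨c.1 - (rowc i).1, fun a b hab => by
    rw [Finsupp.tsub_apply, Finsupp.tsub_apply]
    change c b - rowc i b ≤ c a - rowc i a
    have h2 := c.anti hab
    rw [rowc_apply, rowc_apply]
    split_ifs with h3 h4 h4
    · omega
    · omega
    · have h5 := c.anti h4
      have h6 := c.anti (show i + 1 ≤ b by omega)
      omega
    · omega⟩
  have hc' : ∀ j, c' j = c j - rowc i j := fun j => rfl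
  have h2 : ∀ j, c j = c' j + rowc i j := by
    intro j
    rw [hc', Nat.sub_add_cancel (hle j)]
  refine ⟨c', h2, ?_⟩
  obtain ⟨b, hb⟩ : ∃ b, b = c.size + c'.size + (i + 1) := ⟨_, rfl⟩
  have hb1 : c.size ≤ b := by omega
  have hb2 : c'.size ≤ b := by omega
  have hb3 : (rowc i).size ≤ b := by rw [size_rowc]; omega
  have h3 := size_rowc i
  rw [Col.size_eq_sum_range hb3] at h3
  rw [← h3, Col.size_eq_sum_range hb1, Col.size_eq_sum_range hb2, ← Finset.sum_add_distrib]
  exact Finset.sum_congr rfl fun j _ => h2 j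

end gen

section block

/-- the columns of a unit -/
theorem colOf_unit {K : Type*} [Field K] {n : ℕ} {M : Matrix (Fin n) (Fin n) K} (h : IsUnit M) (l : ℕ) :
    colOf (Matrix.toLin' M) l = 0 := by
  have h1 := colOf_add_rank M l
  rw [Matrix.rank_of_isUnit _ (h.pow _), Matrix.rank_of_isUnit _ (h.pow _)] at h1
  omega

open Classical in
/-- a single Jordan block -/
theorem exists_gl_block {E : Type*} [Field E] (z : Eˣ) (i : ℕ) : ∃ u : GL (Fin (i + 1)) E,
    ∀ (L : Type*) [Field L] [Algebra E L] (y : L) (l : ℕ), mcol (u : Matrix (Fin (i + 1)) (Fin (i + 1)) E) y l =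
      if y = algebraMap E L z then rowc i l else 0 := by
  obtain ⟨m, hm, e, bas, hJ⟩ := Cfsg.Agent.H794.GUT.exists_jordan E (fun _ : Fin 1 => i + 1)
  have hm' : m = i + 1 := by rw [hm]; simp
  subst hm'
  set U : Matrix (Fin (i + 1)) (Fin (i + 1)) E :=
    Matrix.reindex e e (Cfsg.jordanTypeMatrix (fun _ : Fin 1 => i + 1) E) with hU
  have hnil := Cfsg.Agent.H794.GUT.nilp_jb hJ (B := i + 1) (fun _ => le_rfl)
  have hker := Cfsg.Agent.H794.GUT.finrank_ker_jb hJ
  set N : Matrix (Fin (i + 1)) (Fin (i + 1)) E := U - 1 with hN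
  have hNl : Matrix.toLin' U - 1 = Matrix.toLin' N := by
    rw [hN, map_sub, Matrix.toLin'_one]
    rfl
  rw [hNl] at hnil
  have hN0 : N ^ (i + 1) = 0 := by
    apply Matrix.toLin'.injective
    rw [Matrix.toLin'_pow, hnil, map_zero]
  -- the columns of `N`
  have hcol : ∀ l, colOf (Matrix.toLin' N) l = rowc i l := by
    intro l
    have h1 := colOf_add (Matrix.toLin' N) l
    rw [← hNl, hker, hker, Finset.sum_range_succ, hNl, add_comm] at h1
    have h2 := Nat.add_left_cancel h1
    rw [h2, rowc_apply, Finset.card_filter, Finset.univ_unique, Finset.sum_singleton]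
    by_cases hl : l ≤ i
    · rw [if_pos (by omega), if_pos hl]
    · rw [if_neg (by omega), if_neg hl]
  have hUu : IsUnit U := by
    have h1 : U = 1 + N := by rw [hN]; abel
    rw [h1]
    exact IsNilpotent.isUnit_one_add ⟨i + 1, hN0⟩
  obtain ⟨V, hV⟩ := hUu
  refine ⟨scl (i + 1) z * V, fun L _ _ y l => ?_⟩
  have h1 : ((scl (i + 1) z * V : GL (Fin (i + 1)) E) : Matrix (Fin (i + 1)) (Fin (i + 1)) E).map (algebraMap E L) -
      Matrix.scalar (Fin (i + 1)) y = Matrix.scalar (Fin (i + 1)) (algebraMap E L z - y) +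
        Matrix.scalar (Fin (i + 1)) (algebraMap E L z) * N.map (algebraMap E L) := by
    have h2 : ((scl (i + 1) z * V : GL (Fin (i + 1)) E) : Matrix (Fin (i + 1)) (Fin (i + 1)) E) =
        Matrix.scalar (Fin (i + 1)) (z : E) + Matrix.scalar (Fin (i + 1)) (z : E) * N := by
      rw [Units.val_mul, hV, hN, mul_sub, mul_one, add_sub_cancel]
      rfl
    have h3 : (Matrix.scalar (Fin (i + 1)) (z : E)).map (algebraMap E L) =
        Matrix.scalar (Fin (i + 1)) (algebraMap E L z) := by
      rw [Matrix.scalar_apply, Matrix.scalar_apply, Matrix.diagonal_map (map_zero _)]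
    rw [h2, Matrix.map_add (algebraMap E L) (map_add _), Matrix.map_mul, h3, map_sub]
    abel
  have hcomm : ∀ (a : L) (M : Matrix (Fin (i + 1)) (Fin (i + 1)) L), Commute (Matrix.scalar (Fin (i + 1)) a) M :=
    fun a M => Matrix.scalar_commute _ (fun _ => Commute.all _ _) _
  have hz0 : algebraMap E L z ≠ 0 := (_root_.map_ne_zero _).2 z.ne_zero
  have hNL : N.map (algebraMap E L) ^ (i + 1) = 0 := by
    have h2 : N.map (algebraMap E L) ^ (i + 1) = (N ^ (i + 1)).map (algebraMap E L) :=
      (map_pow ((algebraMap E L).mapMatrix (m := Fin (i + 1))) N (i + 1)).symm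
    rw [h2, hN0]
    exact Matrix.map_zero _ (map_zero _)
  unfold mcol
  rw [h1]
  split_ifs with hy
  · rw [hy, sub_self, map_zero, zero_add, colOf_mul ((IsUnit.mk0 _ hz0).map (Matrix.scalar (Fin (i + 1))))
      (hcomm _ _), colOf_map, hcol]
  · refine colOf_unit ?_ l
    have hu : IsUnit (Matrix.scalar (Fin (i + 1)) (algebraMap E L z - y)) :=
      (IsUnit.mk0 _ (sub_ne_zero.2 (Ne.symm hy))).map (Matrix.scalar (Fin (i + 1)))
    refine IsNilpotent.isUnit_add_left_of_commute ?_ hu (hcomm _ _).symm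
    refine (hcomm _ _).isNilpotent_mul_left ⟨i + 1, hNL⟩

universe u v

/-- equality of orbits -/
theorem orb_eq_iff {F : Type u} [Field F] [Fintype F] {q : ℕ} (hF : Fintype.card F = q ^ 2) {K : Type v} [Field K]
    [Algebra F K] [Algebra.IsAlgebraic F K] (x y : Kˣ) :
    (Quotient.mk (orbSetoid K (-(q : ℤ))) x) = Quotient.mk (orbSetoid K (-(q : ℤ))) y ↔ ∃ k : ℕ, (Phi q)^[k] x = y := by
  rw [← orbEquiv_mk hF, ← orbEquiv_mk hF, (orbEquiv hF).injective.eq_iff, OI.mk_eq_iff]

theorem dOrb_mk {F : Type u} [Field F] [Fintype F] {q : ℕ} (hF : Fintype.card F = q ^ 2) {K : Type v} [Field K]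
    [Algebra F K] [Algebra.IsAlgebraic F K] (x : Kˣ) :
    dOrb K (-(q : ℤ)) (Quotient.mk (orbSetoid K (-(q : ℤ))) x) = dd q x := by
  rw [← orbEquiv_mk hF, dOrb_eq, OI.d_mk]

open Classical in
/-- a single unitary Jordan block -/
theorem exists_gu_block {E : Type u} [Field E] [Fintype E] {Q₀ : ℕ} (hE : Fintype.card E = Q₀ ^ 2) (Ω : Type v)
    [Field Ω] [Algebra E Ω] [Algebra.IsAlgebraic E Ω] [IsAlgClosed Ω] (z : Eˣ) (hz : z ^ (Q₀ + 1) = 1) (i : ℕ) :
    ∃ u : GU (i + 1) E Q₀, ∀ (y : Ωˣ) (l : ℕ),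
      mcol ((u : GL (Fin (i + 1)) E) : Matrix (Fin (i + 1)) (Fin (i + 1)) E) (y : Ω) l =
        if (y : Ω) = algebraMap E Ω z then rowc i l else 0 := by
  let w : Ωˣ := Units.map (algebraMap E Ω : E →* Ω) z
  have hw : Phi Q₀ w = w := by
    rw [Phi, inv_eq_iff_mul_eq_one, ← pow_succ, ← map_pow, hz, map_one]
  have hit : ∀ k, (Phi Q₀)^[k] w = w := fun k => Function.iterate_fixed hw k
  have hdd : dd Q₀ w = 1 := Function.minimalPeriod_eq_one_iff_isFixedPt.2 hw
  let o := Quotient.mk (orbSetoid Ω (-(Q₀ : ℤ))) w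
  obtain ⟨u, hu⟩ := exists_typ (typeDataO Ω hE (i + 1)) (lam := Finsupp.single o (rowc i)) (by
    rw [tdeg, Finsupp.sum_single_index (by rw [Col.size_zero, mul_zero]), dOrb_mk hE, hdd, size_rowc, one_mul])
  refine ⟨u, fun y l => ?_⟩
  rw [← typeDataO_typ hE, hu, Finsupp.single_apply]
  have h1 : (o = Quotient.mk (orbSetoid Ω (-(Q₀ : ℤ))) y) ↔ (y : Ω) = algebraMap E Ω z := by
    rw [orb_eq_iff hE]
    constructor
    · rintro ⟨k, hk⟩
      rw [← hk, hit]
      rfl
    · intro h
      exact ⟨0, Units.ext h.symm⟩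
  by_cases h : (y : Ω) = algebraMap E Ω z
  · rw [if_pos h, if_pos (h1.2 h)]
  · rw [if_neg h, if_neg (fun h' => h (h1.1 h'))]
    rfl

/-- sums over an orbit -/
theorem sum_orb {F : Type u} [Field F] [Fintype F] {q : ℕ} (hF : Fintype.card F = q ^ 2) {K : Type v} [Field K]
    [Algebra F K] [Algebra.IsAlgebraic F K] (x y : Kˣ) (r : ℕ)
    [Decidable (Quotient.mk (orbSetoid K (-(q : ℤ))) x = Quotient.mk (orbSetoid K (-(q : ℤ))) y)]
    [∀ j : ℕ, Decidable (((x ^ ((-(q : ℤ)) ^ j) : Kˣ) : K) = y)] :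
    (∑ j ∈ Finset.range (dd q y), if ((x ^ ((-(q : ℤ)) ^ j) : Kˣ) : K) = y then r else 0) =
      if Quotient.mk (orbSetoid K (-(q : ℤ))) x = Quotient.mk (orbSetoid K (-(q : ℤ))) y then r else 0 := by
  split_ifs with h
  · have h0 := (orb_eq_iff hF x y).1 h
    have hd : dd q x = dd q y := by
      rw [← dOrb_mk hF, ← dOrb_mk hF, h]
    obtain ⟨k, hk⟩ := h0
    have hpos := Cfsg.Agent.H794.GUT.dd_pos hF x
    have hk' : (Phi q)^[k % dd q x] x = y := by
      rw [← hk]
      exact Function.iterate_mod_minimalPeriod_eq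
    rw [← hd, Finset.sum_eq_single (k % dd q x)]
    · rw [if_pos]
      rw [← Phi_zpow, hk']
    · intro j hj hne
      rw [if_neg]
      intro h1
      apply hne
      have h2 : (Phi q)^[j] x = y := by
        rw [Phi_zpow]
        exact Units.ext h1
      exact (Function.iterate_eq_iterate_iff_of_lt_minimalPeriod (Finset.mem_range.1 hj) (Nat.mod_lt _ hpos)).1
        (h2.trans hk'.symm)
    · intro h1
      exact absurd (Finset.mem_range.2 (Nat.mod_lt _ hpos)) h1
  · refine Finset.sum_eq_zero fun j _ => if_neg fun h1 => h ?_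
    rw [orb_eq_iff hF]
    exact ⟨j, by rw [Phi_zpow]; exact Units.ext h1⟩

end block

section main

universe u v

variable {F : Type u} [Field F] [Fintype F] {n q : ℕ}

theorem tdeg_update {I : Type*} (d : I → ℕ) (lam : Ty I) (o : I) (c : Col) {k : ℕ}
    (h : (lam o).size = c.size + k) : tdeg d lam = d o * k + tdeg d (lam.update o c) := by
  classical
  have h1 : ∀ nu : Ty I, nu.support ⊆ insert o lam.support →
      tdeg d nu = d o * (nu o).size + ∑ i ∈ (insert o lam.support).erase o, d i * (nu i).size := by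
    intro nu hnu
    rw [tdeg, Finsupp.sum_of_support_subset _ hnu _ (fun i _ => by rw [Col.size_zero, mul_zero]),
      Finset.add_sum_erase _ (fun i => d i * (nu i).size) (Finset.mem_insert_self o _)]
  rw [h1 lam (Finset.subset_insert _ _), h1 (lam.update o c) (by
    rw [Finsupp.support_update]
    split_ifs
    · exact (Finset.erase_subset _ _).trans (Finset.subset_insert _ _)
    · exact le_rfl), h, Finsupp.coe_update, Function.update_self, mul_add]
  have h2 : ∀ i ∈ (insert o lam.support).erase o, d i * (Function.update (⇑lam) o c i).size = d i * (lam i).size := by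
    intro i hi
    rw [Function.update_of_ne (Finset.ne_of_mem_erase hi)]
  rw [Finset.sum_congr rfl h2]
  ring

/-- transport of the determinant of an element of the centralizer of a conjugate -/
theorem det_of_conj (x g c : GU n F q) (α : Fˣ →* ℂˣ)
    (h : Subgroup.centralizer ({x} : Set (GU n F q)) ≤ ((dch n α).comp (GU n F q).subtype).ker)
    (hg : IsConj x g) (hc : c * g = g * c) : α (Matrix.GeneralLinearGroup.det (c : GL (Fin n) F)) = 1 := by
  obtain ⟨a, ha⟩ := isConj_iff.1 hg
  have h1 : a⁻¹ * c * a ∈ Subgroup.centralizer ({x} : Set (GU n F q)) := by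
    rw [Subgroup.mem_centralizer_singleton_iff]
    have h2 : x = a⁻¹ * g * a := by rw [← ha]; group
    calc a⁻¹ * c * a * x = a⁻¹ * (c * g) * a := by rw [h2]; group
      _ = x * (a⁻¹ * c * a) := by rw [hc, h2]; group
  have h2 := h h1
  rw [MonoidHom.mem_ker] at h2
  have h3 : (((dch n α).comp (GU n F q).subtype) (a⁻¹ * c * a)) = ((dch n α).comp (GU n F q).subtype) c := by
    rw [map_mul, map_mul, map_inv, mul_comm, mul_inv_cancel_left]
  rw [h3] at h2
  exact h2

theorem det_scl {E : Type*} [Field E] (k : ℕ) (z : Eˣ) :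
    Matrix.GeneralLinearGroup.det (scl k z : GL (Fin k) E) = z ^ k := by
  apply Units.ext
  change (Matrix.scalar (Fin k) (z : E)).det = _
  rw [Matrix.scalar_apply, Matrix.det_diagonal, Finset.prod_const, Finset.card_univ, Fintype.card_fin,
    Units.val_pow_eq_pow_val]

theorem scl_comm {E : Type*} [Field E] (k : ℕ) (z : Eˣ) (u : GL (Fin k) E) : scl k z * u = u * scl k z :=
  Units.ext (Matrix.scalar_commute (z : E) (fun _ => Commute.all _ _) (u : Matrix (Fin k) (Fin k) E))

theorem pow_eq_one_aux {Ω : Type u} [Field Ω] [Algebra F Ω] [Algebra.IsAlgebraic F Ω] [IsAlgClosed Ω]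
    (hF : Fintype.card F = q ^ 2) (x : GU n F q) (α : Fˣ →* ℂˣ)
    (h : Subgroup.centralizer ({x} : Set (GU n F q)) ≤ ((dch n α).comp (GU n F q).subtype).ker) (y : Ωˣ) (i : ℕ)
    (hi : mcol ((x : GL (Fin n) F) : Matrix (Fin n) (Fin n) F) (y : Ω) i ≠
      mcol ((x : GL (Fin n) F) : Matrix (Fin n) (Fin n) F) (y : Ω) (i + 1)) (z₀ : Fˣ) :
    α (z₀ * (z₀ ^ q)⁻¹) ^ (i + 1) = 1 := by
  classical
  have hq := ClassicalGeometry.GUBasic.two_le hF
  set T := typeDataO Ω hF n with hT
  set o := Quotient.mk (orbSetoid Ω (-(q : ℤ))) y with ho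
  have hto : T.typ x o = mcol ((x : GL (Fin n) F) : Matrix (Fin n) (Fin n) F) (y : Ω) := typeDataO_typ hF x y
  obtain ⟨c', hc', hsize⟩ := exists_sub_row (c := T.typ x o) (i := i) (by rw [hto]; exact hi)
  set μ : Ty (Orb Ω (-(q : ℤ))) := (T.typ x).update o c' with hμ
  obtain ⟨m, hm⟩ : ∃ m, m = tdeg (dOrb Ω (-(q : ℤ))) μ := ⟨_, rfl⟩
  have hdeg : n = dd q y * (i + 1) + m := by
    have h1 := tdeg_update (dOrb Ω (-(q : ℤ))) (T.typ x) o c' hsize
    rw [T.deg x, dOrb_mk hF y, ← hμ, ← hm] at h1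
    exact h1
  obtain ⟨y₂, hy₂⟩ := exists_typ (typeDataO Ω hF m) (lam := μ) hm.symm
  -- recognition of the conjugate
  have hrec : ∀ g : GU n F q, (∀ (w : Ωˣ) (l : ℕ), mcol ((g : GL (Fin n) F) : Matrix (Fin n) (Fin n) F) (w : Ω) l =
      (∑ j ∈ Finset.range (dd q y), if ((w ^ ((-(q : ℤ)) ^ j) : Ωˣ) : Ω) = y then rowc i l else 0) +
        mcol ((y₂ : GL (Fin m) F) : Matrix (Fin m) (Fin m) F) (w : Ω) l) → IsConj x g := by
    intro g hg
    refine T.sep x g ?_
    ext1 o'
    induction o' using Quotient.inductionOn with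
    | h w =>
      ext l
      rw [hT, typeDataO_typ hF g w, hg w l, sum_orb hF, ← typeDataO_typ hF y₂ w, hy₂, hμ, Finsupp.coe_update]
      split_ifs with hw
      · rw [hw, Function.update_self, ← hc' l |>.trans (add_comm _ _)]
      · rw [Function.update_of_ne hw, zero_add]
  -- the field generated by `y`
  have hint : IsIntegral F (y : Ω) := Algebra.IsIntegral.isIntegral _
  let E := IntermediateField.adjoin F {(y : Ω)}
  have hfd : FiniteDimensional F E := IntermediateField.adjoin.finiteDimensional hint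
  have hfin : Finite E := Module.finite_of_finite F
  let := Fintype.ofFinite E
  have hz0 : IntermediateField.AdjoinSimple.gen F (y : Ω) ≠ 0 := by
    intro h0
    have h1 := congrArg (algebraMap E Ω) h0
    rw [IntermediateField.AdjoinSimple.algebraMap_gen, map_zero] at h1
    exact y.ne_zero h1
  let z : Eˣ := Units.mk0 _ hz0
  have hzy : algebraMap E Ω (z : E) = y := IntermediateField.AdjoinSimple.algebraMap_gen F (y : Ω)
  have hfr : finrank F E = (mp F y).natDegree := IntermediateField.adjoin.finrank hint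
  have hadj : Algebra.adjoin F {(z : E)} = ⊤ := (IntermediateField.adjoin.powerBasis hint).adjoin_gen_eq_top
  obtain ⟨w, hw⟩ := FiniteField.norm_surjective F E (z₀ : F)
  have hw0 : w ≠ 0 := by
    rintro rfl
    rw [Algebra.norm_zero] at hw
    exact z₀.ne_zero hw.symm
  let W : Eˣ := Units.mk0 w hw0
  have hW : nrm F E W = z₀ := Units.ext hw
  rcases Cfsg.Agent.H794.GUT.dd_cases hF y with ⟨hodd, hdd⟩ | ⟨heven, hdd⟩
  · -- odd orbits
    obtain ⟨f, hf⟩ : ∃ f, f = dd q y := ⟨_, rfl⟩
    rw [← hf] at hodd hdd hdeg hrec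
    have hcE : Fintype.card E = (q ^ f) ^ 2 := by
      rw [Module.card_eq_pow_finrank (K := F) (V := E), hfr, hdd, hF, ← pow_mul, ← pow_mul, mul_comm]
    have hz : z ^ (q ^ f + 1) = 1 := by
      have h1 := Cfsg.Agent.H794.GUT.pow_odd_eq hF y (hf ▸ hodd)
      rw [← hf] at h1
      apply Units.ext
      apply (algebraMap E Ω).injective
      rw [Units.val_pow_eq_pow_val, map_pow, hzy, Units.val_one, map_one, ← Units.val_pow_eq_pow_val, h1,
        Units.val_one]
    obtain ⟨z', hz'1, hz'2, hz'3⟩ : ∃ z' : Eˣ, z' ^ (q ^ f + 1) = 1 ∧ z' ≠ 1 ∧ Algebra.adjoin F {(z' : E)} = ⊤ := by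
      by_cases hz1 : z = 1
      · obtain ⟨v, hv⟩ := H186.exists_pow_ne hcE
        have hv0 : v ≠ 0 := by
          rintro rfl
          exact hv (zero_pow (pow_ne_zero _ (by omega)))
        have hVQ : ((Units.mk0 v hv0) ^ (q ^ f)) ^ (q ^ f) = Units.mk0 v hv0 := by
          rw [← pow_mul, ← sq, ← hcE]
          apply Units.ext
          rw [Units.val_pow_eq_pow_val, FiniteField.pow_card]
        refine ⟨Units.mk0 v hv0 * ((Units.mk0 v hv0) ^ (q ^ f))⁻¹, ?_, ?_, ?_⟩
        · rw [pow_succ, mul_pow, inv_pow, hVQ]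
          group
        · intro h1
          rw [mul_inv_eq_one] at h1
          exact hv (congrArg Units.val h1).symm
        · rw [hz1, Units.val_one, Algebra.adjoin_singleton_one] at hadj
          rw [eq_top_iff, ← hadj]
          exact bot_le
      · exact ⟨z, hz, hz1, hadj⟩
    obtain ⟨j, -, -, hjm, hjd⟩ := exists_odd (K := Ω) hF hodd (hfr.trans hdd) hdeg z' hz'1 hz'2 hz'3
    obtain ⟨u, hu⟩ := exists_gu_block hcE Ω z hz i
    have hconj : IsConj x (j (u, y₂)) := by
      refine hrec _ fun w' l => ?_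
      rw [hjm]
      congr 1
      refine Finset.sum_congr rfl fun k _ => ?_
      rw [hu, hzy]
    -- the central element
    have hWQ : (W ^ (q ^ f)) ^ (q ^ f) = W := by
      rw [← pow_mul, ← sq, ← hcE]
      apply Units.ext
      rw [Units.val_pow_eq_pow_val, FiniteField.pow_card]
    have hζ : (W * (W ^ (q ^ f))⁻¹) ^ (q ^ f + 1) = 1 := by
      rw [pow_succ, mul_pow, inv_pow, hWQ]
      group
    have h1 := det_of_conj x (j (u, y₂)) (j (gsc (i + 1) (W * (W ^ (q ^ f))⁻¹) hζ, 1)) α h hconj (by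
      rw [← map_mul, ← map_mul, Prod.mk_mul_mk, Prod.mk_mul_mk, one_mul, mul_one]
      congr 2
      exact Subtype.ext (scl_comm _ _ _))
    rw [hjd, coe_gsc, det_scl] at h1
    have h2 : nrm F E ((W * (W ^ q ^ f)⁻¹) ^ (i + 1)) *
        Matrix.GeneralLinearGroup.det (((1 : GU m F q) : GL (Fin m) F)) = (z₀ * (z₀ ^ q)⁻¹) ^ (i + 1) := by
      have h3 : Matrix.GeneralLinearGroup.det (((1 : GU m F q) : GL (Fin m) F)) = 1 := map_one _
      have h4 : z₀ ^ (q ^ f) = z₀ ^ q := Units.ext (by
        rw [Units.val_pow_eq_pow_val, Units.val_pow_eq_pow_val]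
        exact Cfsg.Agent.H794.GUT.pow_odd hF hodd (z₀ : F))
      rw [h3, mul_one, map_pow, map_mul, map_inv, map_pow, hW, h4]
    rw [h2, map_pow] at h1
    exact h1
  · -- even orbits
    obtain ⟨g, hg⟩ : ∃ g, g = (mp F y).natDegree := ⟨_, rfl⟩
    rw [← hg] at hdd
    rw [← hdd] at hdeg hrec
    have hz : ∀ k : ℕ, (z⁻¹) ^ q ≠ z ^ ((q ^ 2) ^ k) := by
      intro k hk
      have h1 : Phi q y = y ^ (Fintype.card F ^ k) := by
        have h2 := congrArg (fun t : Eˣ => algebraMap E Ω (t : E)) hk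
        apply Units.ext
        rw [Phi, ← inv_pow, hF]
        simp only [Units.val_pow_eq_pow_val, Units.val_inv_eq_inv_val, map_pow, map_inv₀, hzy] at h2 ⊢
        exact h2
      have h2 := (Cfsg.Agent.H794.GUT.mp_Phi_eq_iff hF y).1 (by rw [h1, Cfsg.Agent.H794.GUT.mp_pow])
      exact (Nat.not_odd_iff_even.2 heven) h2
    obtain ⟨j, -, -, hjm, hjd⟩ := exists_even (K := Ω) hF (hfr.trans hg.symm) hdeg z hz hadj
    obtain ⟨u, hu⟩ := exists_gl_block z i
    have hconj : IsConj x (j (u, y₂)) := by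
      refine hrec _ fun w' l => ?_
      rw [hjm]
      congr 1
      refine Finset.sum_congr rfl fun k _ => ?_
      rw [hu, hzy]
    have h1 := det_of_conj x (j (u, y₂)) (j (scl (i + 1) W, 1)) α h hconj (by
      rw [← map_mul, ← map_mul, Prod.mk_mul_mk, Prod.mk_mul_mk, one_mul, mul_one, scl_comm])
    rw [hjd, det_scl] at h1
    have h2 : nrm F E (W ^ (i + 1)) * (nrm F E (W ^ (i + 1)) ^ q)⁻¹ *
        Matrix.GeneralLinearGroup.det (((1 : GU m F q) : GL (Fin m) F)) = (z₀ * (z₀ ^ q)⁻¹) ^ (i + 1) := by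
      have h3 : Matrix.GeneralLinearGroup.det (((1 : GU m F q) : GL (Fin m) F)) = 1 := map_one _
      rw [h3, mul_one, map_pow, hW, mul_pow, inv_pow, ← pow_mul, ← pow_mul, mul_comm q]
    rw [h2, map_pow] at h1
    exact h1

/-- **LA2' for `GU_n(q)`** -/
theorem pow_eq_one {K : Type v} [Field K] [Algebra F K] (hF : Fintype.card F = q ^ 2) (x : GU n F q) (α : Fˣ →* ℂˣ)
    (h : Subgroup.centralizer ({x} : Set (GU n F q)) ≤ ((dch n α).comp (GU n F q).subtype).ker) (y : Kˣ) (i : ℕ)
    (hi : mcol ((x : GL (Fin n) F) : Matrix (Fin n) (Fin n) F) (y : K) i ≠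
      mcol ((x : GL (Fin n) F) : Matrix (Fin n) (Fin n) F) (y : K) (i + 1)) (z : Fˣ) :
    α (z * (z ^ q)⁻¹) ^ (i + 1) = 1 := by
  have h0 : mcol ((x : GL (Fin n) F) : Matrix (Fin n) (Fin n) F) (y : K) 0 ≠ 0 := by
    have key : ∀ c : Col, c i ≠ c (i + 1) → c 0 ≠ 0 := by
      intro c hc
      have h1 : c i ≤ c 0 := c.anti (Nat.zero_le i)
      have h2 : c (i + 1) ≤ c i := c.anti (Nat.le_succ i)
      omega
    exact key _ hi
  rw [← isRoot_charpoly_iff, IsRoot.def, eval_map_algebraMap] at h0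
  have hint : IsIntegral F (y : K) := ⟨_, Matrix.charpoly_monic _, h0⟩
  have hfd : FiniteDimensional F (IntermediateField.adjoin F {(y : K)}) := IntermediateField.adjoin.finiteDimensional hint
  let φ : IntermediateField.adjoin F {(y : K)} →ₐ[F] AlgebraicClosure F := IsAlgClosed.lift
  have h1 := mcol_algHom φ ((x : GL (Fin n) F) : Matrix (Fin n) (Fin n) F) (IntermediateField.AdjoinSimple.gen F (y : K))
  have h2 := mcol_algHom (IntermediateField.adjoin F {(y : K)}).val ((x : GL (Fin n) F) : Matrix (Fin n) (Fin n) F)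
    (IntermediateField.AdjoinSimple.gen F (y : K))
  have h3 : (IntermediateField.adjoin F {(y : K)}).val (IntermediateField.AdjoinSimple.gen F (y : K)) = y :=
    IntermediateField.AdjoinSimple.algebraMap_gen F (y : K)
  rw [h3, ← h1] at h2
  have hne : φ (IntermediateField.AdjoinSimple.gen F (y : K)) ≠ 0 := by
    intro h4
    rw [map_eq_zero] at h4
    rw [h4, map_zero] at h3
    exact y.ne_zero h3.symm
  refine pow_eq_one_aux (Ω := AlgebraicClosure F) hF x α h (Units.mk0 _ hne) i ?_ z
  rw [Units.val_mk0, ← h2]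
  exact hi

end main

end Cfsg.Agent.H166.GUC
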