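import Cfsg.Agent.H166.GUC.Mcol
import Cfsg.Agent.ClassicalGeometry.HermOrthonormal
import Cfsg.Agent.ClassicalGeometry.GUBasic

/-!
# S4537, G1: hermitian forms and traces (helper166)

* `HermF σ b`, `HermF.exists_iso`: nondegenerate hermitian forms over a finite field;
* `exists_powHom`: `x ↦ x ^ q` on algebras over a field with `q ^ 2` elements;
* `trace_pow`, `trace_pow_odd`, `eq_zero_of_trace`.
-/

set_option autoImplicit false
set_option linter.unusedSectionVars false

namespace Cfsg.Agent.H166.GUC

open Module Cfsg.Agent.ClassicalGeometry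

/-- a nondegenerate hermitian form, linear in the first variable -/
structure HermF {F W : Type*} [Field F] [AddCommGroup W] [Module F W] (σ : F →+* F) (b : W → W → F) : Prop where
  add : ∀ u u' v, b (u + u') v = b u v + b u' v
  smul : ∀ (c : F) u v, b (c • u) v = c * b u v
  symm : ∀ u v, b v u = σ (b u v)
  nd : ∀ u, (∀ v, b u v = 0) → u = 0

section

variable {F W : Type*} [Field F] [AddCommGroup W] [Module F W] {σ : F →+* F} {b : W → W → F}

/-- the sesquilinear map -/
noncomputable def HermF.toMap (h : HermF σ b) : W →ₛₗ[σ] W →ₗ[F] F :=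
  LinearMap.mk₂'ₛₗ σ (RingHom.id F) (fun u v => b v u)
    (fun u u' v => by rw [h.symm, h.add, map_add, ← h.symm, ← h.symm])
    (fun c u v => by rw [h.symm, h.smul, map_mul, ← h.symm, smul_eq_mul])
    (fun u v v' => h.add v v' u)
    (fun c u v => by rw [h.smul, smul_eq_mul]; rfl)

theorem HermF.toMap_apply (h : HermF σ b) (u v : W) : h.toMap u v = b v u := rfl

theorem HermF.smul_right (h : HermF σ b) (c : F) (u v : W) : b u (c • v) = σ c * b u v := by
  rw [h.symm, h.smul, map_mul, ← h.symm]

theorem HermF.zero_left (h : HermF σ b) (v : W) : b 0 v = 0 := by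
  have := h.smul 0 0 v
  rwa [zero_smul, zero_mul] at this

theorem HermF.zero_right (h : HermF σ b) (v : W) : b v 0 = 0 := by
  rw [h.symm, h.zero_left, map_zero]

variable [Finite F] [FiniteDimensional F W] (hσ : σ ≠ RingHom.id F) (hσ2 : ∀ a : F, σ (σ a) = a)

include hσ hσ2

theorem HermF.exists_iso {q : ℕ} (hq : ∀ x, σ x = x ^ q) (h : HermF σ b) {n : ℕ} (hn : finrank F W = n) :
    ∃ j : W ≃ₗ[F] (Fin n → F), ∀ x y, hermForm n F q (j x) (j y) = b x y := by
  obtain ⟨B, hB⟩ := HermOrthonormal.exists_orthonormal_basis hσ hσ2 h.toMap ⟨fun u v => by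
    rw [h.toMap_apply, h.toMap_apply, h.symm, hσ2]⟩ (fun u hu => h.nd u fun v => by
      rw [h.symm]
      have h1 := hu v
      rw [h.toMap_apply] at h1
      rw [h1, map_zero])
  subst hn
  refine ⟨B.equivFun, fun x y => ?_⟩
  obtain ⟨x, rfl⟩ := B.equivFun.symm.surjective x
  obtain ⟨y, rfl⟩ := B.equivFun.symm.surjective y
  rw [LinearEquiv.apply_symm_apply, LinearEquiv.apply_symm_apply]
  symm
  rw [← h.toMap_apply, Module.Basis.equivFun_symm_apply, Module.Basis.equivFun_symm_apply, map_sum,
    GUBasic.hermForm_apply]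
  refine Finset.sum_congr rfl fun i _ => ?_
  rw [map_smul, map_sum, LinearMap.sum_apply, Finset.sum_eq_single i]
  · rw [LinearMap.map_smulₛₗ, LinearMap.smul_apply, hB, if_pos rfl, hq]
    simp only [smul_eq_mul, mul_one]
  · intro k _ hk
    rw [LinearMap.map_smulₛₗ, LinearMap.smul_apply, hB, if_neg hk]
    simp
  · intro hi
    exact absurd (Finset.mem_univ i) hi

end

section

variable {F : Type*} [Field F] [Fintype F] {q : ℕ} (hF : Fintype.card F = q ^ 2) {σ : F →+* F} (hσ : ∀ x, σ x = x ^ q)

include hF hσ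

theorem sigma_sigma (a : F) : σ (σ a) = a := by
  rw [hσ, hσ, ← pow_mul, ← pow_two, ← hF, FiniteField.pow_card]

theorem sigma_ne : σ ≠ RingHom.id F := by
  classical
  intro h
  have hq := GUBasic.two_le hF
  have h1 : ∀ x : F, x ^ q = x := fun x => by rw [← hσ, h]; rfl
  have h2 : (Finset.univ : Finset F) ⊆ (Polynomial.X ^ q - Polynomial.X : Polynomial F).roots.toFinset := by
    intro x _
    rw [Multiset.mem_toFinset, Polynomial.mem_roots (FiniteField.X_pow_card_sub_X_ne_zero F (by omega)), Polynomial.IsRoot,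
      Polynomial.eval_sub, Polynomial.eval_pow, Polynomial.eval_X, h1, sub_self]
  have h3 := (Finset.card_le_card h2).trans ((Multiset.toFinset_card_le _).trans (Polynomial.card_roots' _))
  rw [Finset.card_univ, hF, FiniteField.X_pow_card_sub_X_natDegree_eq F (by omega)] at h3
  nlinarith

theorem hermForm_hermF (n : ℕ) : HermF σ (hermForm n F q) where
  add u u' v := by
    simp only [GUBasic.hermForm_apply, Pi.add_apply, add_mul, Finset.sum_add_distrib]
  smul c u v := by
    simp only [GUBasic.hermForm_apply, Pi.smul_apply, smul_eq_mul, Finset.mul_sum, mul_assoc]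
  symm u v := by
    rw [GUBasic.hermForm_apply, GUBasic.hermForm_apply, map_sum]
    refine Finset.sum_congr rfl fun i _ => ?_
    rw [map_mul, ← hσ (v i), sigma_sigma hF hσ, hσ]
    ring
  nd u hu := by
    have hq := GUBasic.two_le hF
    funext i
    have h := hu (Pi.single i 1)
    rw [GUBasic.hermForm_apply, Finset.sum_eq_single i] at h
    · simpa using h
    · intro j _ hj
      rw [Pi.single_eq_of_ne hj, zero_pow (by omega), mul_zero]
    · intro h2
      exact absurd (Finset.mem_univ i) h2

end

section tr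

variable {F : Type*} [Field F] [Fintype F] {q : ℕ}

/-- `x ↦ x ^ q` is a ring homomorphism of algebras over a field with `q ^ 2` elements -/
theorem exists_powHom (hF : Fintype.card F = q ^ 2) (R : Type*) [Field R] [Algebra F R] :
    ∃ θ : R →+* R, ∀ x, θ x = x ^ q := by
  obtain ⟨p, hp⟩ := CharP.exists F
  obtain ⟨k, hpp, hk⟩ := FiniteField.card F p
  have hdvd : q ∣ p ^ (k : ℕ) := by
    rw [← hk, hF]
    exact dvd_pow_self q two_ne_zero
  obtain ⟨j, -, rfl⟩ := (Nat.dvd_prime_pow hpp).1 hdvd
  have : Fact p.Prime := ⟨hpp⟩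
  have : CharP R p := charP_of_injective_algebraMap (algebraMap F R).injective p
  have : ExpChar R p := ExpChar.prime hpp
  exact ⟨iterateFrobenius R p j, fun x => iterateFrobenius_def p j x⟩

variable {E : Type*} [Field E] [Finite E] [Algebra F E]

theorem trace_pow (hF : Fintype.card F = q ^ 2) (a : E) :
    Algebra.trace F E (a ^ q) = Algebra.trace F E a ^ q := by
  obtain ⟨θ, hθ⟩ := exists_powHom hF E
  apply (algebraMap F E).injective
  rw [map_pow (algebraMap F E), FiniteField.algebraMap_trace_eq_sum_pow, FiniteField.algebraMap_trace_eq_sum_pow, ← hθ (∑ i ∈ _, _),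
    map_sum]
  refine Finset.sum_congr rfl fun i _ => ?_
  rw [hθ, ← pow_mul, ← pow_mul, mul_comm]

theorem trace_pow_card (a : E) (j : ℕ) :
    Algebra.trace F E (a ^ (Nat.card F ^ j)) = Algebra.trace F E a := by
  rw [← fro_pow]
  exact Algebra.trace_eq_of_algEquiv (fro F E ^ j) a

theorem trace_pow_odd (hF : Fintype.card F = q ^ 2) {f : ℕ} (hf : Odd f) (a : E) :
    Algebra.trace F E (a ^ (q ^ f)) = Algebra.trace F E a ^ q := by
  obtain ⟨j, rfl⟩ := hf
  rw [← trace_pow hF, ← trace_pow_card (F := F) (a ^ q) j, ← pow_mul, Nat.card_eq_fintype_card, hF]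
  congr 2
  rw [← pow_mul, pow_succ]
  ring

/-- the trace form is nondegenerate -/
theorem eq_zero_of_trace (a : E) (h : ∀ c : E, Algebra.trace F E (c * a) = 0) : a = 0 := by
  have h1 := (traceForm_nondegenerate F E).1 a
  apply h1
  intro c
  rw [Algebra.traceForm_apply, mul_comm]
  exact h c

end tr

end Cfsg.Agent.H166.GUC
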