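import Cfsg.Agent.H531.GU.Rea
import Cfsg.Agent.H521.GU.Loc
import Cfsg.Agent.H421.GU.Orb
import Cfsg.Agent.H624.SlU.Func
import Cfsg.Agent.H615.GU.Grp
import Cfsg.Agent.H166.GUC.Cent

/-!
# S4537 (VAL-T4): the values of the cuspidal characters on the unipotent elements (helper166)

* `Pop_vac_uni`: `Pop k c vac` at the type `l`, `|l| = k`, supported on the orbit of `1`;
* `evR_rv_uni`: the evaluation of `rv Q M k δ`;
* `typ_gu_uni`, `typ_gl_uni`: the type of a unipotent element of `GU_k(q)`, `GL_k(E)`;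
* `val_gu`, `val_gl`: the values of the characters realized by `rv Q M k δ`.
-/

set_option autoImplicit false
set_option linter.unusedSectionVars false

open scoped MatrixGroups

namespace Cfsg.Agent.H166.GUC

open Module Cfsg Cfsg.Agent.H615.GU Cfsg.Agent.H624.Sl Cfsg.Agent.H577.GLB.Std Cfsg.Agent.H624.SlU Polynomial

section pop

variable {K : Type*} [Field K] [Finite K] {θ : K →*₀ ℂ} {Q : ℤ} {M : ℕ}

theorem dOrb_one (hM : Nat.card Kˣ = M) (hQ : IsUnit (Q : ZMod M)) :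
    dOrb K Q (Quotient.mk (orbSetoid K Q) 1) = 1 := by
  rw [H421.GU.dOrb_mk hM hQ, Function.minimalPeriod_eq_one_iff_isFixedPt, Function.IsFixedPt, H421.GU.fr, one_zpow]

theorem thO_one (hM : Nat.card Kˣ = M) (hQ : IsUnit (Q : ZMod M)) (k : ℕ) (c : ZMod M) :
    thO θ Q M k c (Quotient.mk (orbSetoid K Q) 1) = 1 := by
  rw [thO, H421.GU.finsum_orb hM hQ (fun x : Kˣ => θ (x : K) ^ expoZ Q M k c) 1, dOrb_one hM hQ,
    Finset.sum_range_one, one_zpow, Units.val_one, map_one, one_zpow]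

/-- the cuspidal function at the unipotent types -/
theorem Pop_vac_uni (hM : Nat.card Kˣ = M) (hQ : IsUnit (Q : ZMod M)) {k : ℕ} (hk : 0 < k) (c : ZMod M) {l : Col}
    (hl : l.size = k) :
    Pop θ Q M k c H615.GU.vac (Finsupp.single (Quotient.mk (orbSetoid K Q) 1) l) = wt (Q : ℂ) (l 0) := by
  classical
  have hl0 : l ≠ 0 := by
    rintro rfl
    rw [Col.size_zero] at hl
    omega
  rw [H531.GU.Pop_eq, LinearMap.sum_apply, Finset.sum_apply, Finset.sum_eq_single (Quotient.mk (orbSetoid K Q) 1)]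
  · rw [if_pos ⟨hk, by rw [dOrb_one hM hQ]; exact one_dvd k⟩, thO_one hM hQ, one_smul, dOrb_one hM hQ, pow_one,
      Nat.div_one]
    change H531.GU.lft0 _ _ _ _ = _
    rw [H531.GU.lft0_apply, Finsupp.single_eq_same]
    have h1 : (fun c : Col => (H615.GU.vac : Ty (Orb K Q) → ℂ)
        ((Finsupp.single (Quotient.mk (orbSetoid K Q) 1) l).update (Quotient.mk (orbSetoid K Q) 1) c)) = vacl := by
      funext c
      have h2 : (Finsupp.single (Quotient.mk (orbSetoid K Q) 1) l).update (Quotient.mk (orbSetoid K Q) 1) c =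
          Finsupp.single (Quotient.mk (orbSetoid K Q) 1) c := by
        ext1 j
        rw [Finsupp.coe_update]
        by_cases hj : j = Quotient.mk (orbSetoid K Q) 1
        · rw [hj, Function.update_self, Finsupp.single_eq_same]
        · rw [Function.update_of_ne hj, Finsupp.single_eq_of_ne hj, Finsupp.single_eq_of_ne hj]
      simp only [h2, H615.GU.vac, vacl, Finsupp.single_eq_zero]
    rw [h1]
    refine (H521.GU.Pl_vacl (Q : ℂ) hk l).trans ?_
    rw [if_pos hl, wt, Finset.prod_Ico_eq_prod_range]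
    exact Finset.prod_congr rfl fun i _ => by rw [add_comm]
  · intro o _ ho
    split_ifs
    · rw [LinearMap.smul_apply, Pi.smul_apply]
      change _ • H531.GU.lft0 _ _ _ _ = _
      rw [H531.GU.lft0_apply]
      have h1 : (fun c : Col => (H615.GU.vac : Ty (Orb K Q) → ℂ)
          ((Finsupp.single (Quotient.mk (orbSetoid K Q) 1) l).update o c)) = 0 := by
        funext c
        rw [H615.GU.vac, Pi.zero_apply, if_neg]
        intro h2
        have h3 := DFunLike.congr_fun h2 (Quotient.mk (orbSetoid K Q) 1)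
        rw [Finsupp.coe_update, Function.update_of_ne (Ne.symm ho), Finsupp.single_eq_same] at h3
        exact hl0 h3
      rw [h1, map_zero, Pi.zero_apply, smul_zero]
    · rfl
  · intro h
    exact absurd (Finset.mem_univ _) h

/-- the evaluation of the variables at the unipotent types -/
theorem evR_rv_uni [NeZero M] (hM : Nat.card Kˣ = M) (hQ : IsUnit (Q : ZMod M)) {k : ℕ} (hk : 0 < k) {c : ZMod M}
    (hc : TorZ Q M k c) {l : Col} (hl : l.size = k) :
    evR θ Q M (rv Q M k c) (Finsupp.single (Quotient.mk (orbSetoid K Q) 1) l) = wt (Q : ℂ) (l 0) := by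
  have h1 : rv Q M k c = MvPolynomial.monomial (Finsupp.single (k, canon Q M c) 1) 1 := by
    rw [rv, if_pos ⟨hk, hc⟩]
    rfl
  rw [h1, evR_monomial, Finsupp.support_single _ one_ne_zero, Finset.toList_singleton, List.map_singleton,
    List.prod_singleton, Finsupp.single_eq_same, pow_one]
  exact Pop_vac_uni hM hQ hk _ hl

theorem rv_eq_zero [NeZero M] {k : ℕ} {c : ZMod M} (h : ¬ (0 < k ∧ TorZ Q M k c)) : rv Q M k c = 0 := by
  rw [rv, if_neg h]

end pop

section typ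

variable {F K : Type*} [Field F] [Field K] [Algebra F K] {n : ℕ}

/-- the columns of a unipotent matrix -/
theorem mcol_uni {u : GL (Fin n) F} (hu : Uni u) {y : K} (hy : y ≠ 1) :
    mcol (u : Matrix (Fin n) (Fin n) F) y = 0 := by
  have hN : ((u : Matrix (Fin n) (Fin n) F) - 1).map (algebraMap F K) ^ n = 0 := by
    have h2 : ((u : Matrix (Fin n) (Fin n) F) - 1).map (algebraMap F K) ^ n =
        (((u : Matrix (Fin n) (Fin n) F) - 1) ^ n).map (algebraMap F K) :=
      (map_pow ((algebraMap F K).mapMatrix (m := Fin n)) _ n).symm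
    rw [h2, hu]
    exact Matrix.map_zero _ (map_zero _)
  have h1 : (u : Matrix (Fin n) (Fin n) F).map (algebraMap F K) - Matrix.scalar (Fin n) y =
      Matrix.scalar (Fin n) (1 - y) + ((u : Matrix (Fin n) (Fin n) F) - 1).map (algebraMap F K) := by
    rw [Matrix.map_sub (algebraMap F K) (map_sub _), Matrix.map_one _ (map_zero _) (map_one _), map_sub, map_one]
    abel
  have hU : IsUnit ((u : Matrix (Fin n) (Fin n) F).map (algebraMap F K) - Matrix.scalar (Fin n) y) := by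
    rw [h1]
    exact IsNilpotent.isUnit_add_left_of_commute ⟨n, hN⟩
      ((IsUnit.mk0 _ (sub_ne_zero.2 (Ne.symm hy))).map (Matrix.scalar (Fin n)))
      (Matrix.scalar_commute _ (fun _ => Commute.all _ _) _).symm
  unfold mcol
  ext l
  have h2 := colOf_add_rank ((u : Matrix (Fin n) (Fin n) F).map (algebraMap F K) - Matrix.scalar (Fin n) y) l
  rw [Matrix.rank_of_isUnit _ (hU.pow _), Matrix.rank_of_isUnit _ (hU.pow _)] at h2
  rw [Col.zero_apply]
  omega

theorem mcol_uni_zero (u : GL (Fin n) F) : mcol (u : Matrix (Fin n) (Fin n) F) (1 : K) 0 = kd u (X - 1) := by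
  have h1 := colOf_add_rank ((u : Matrix (Fin n) (Fin n) F).map (algebraMap F K) - Matrix.scalar (Fin n) (1 : K)) 0
  have h2 : (u : Matrix (Fin n) (Fin n) F).map (algebraMap F K) - Matrix.scalar (Fin n) (1 : K) =
      ((u : Matrix (Fin n) (Fin n) F) - 1).map (algebraMap F K) := by
    rw [Matrix.map_sub (algebraMap F K) (map_sub _), Matrix.map_one _ (map_zero _) (map_one _), map_one]
  have h3 := finrank_ker_toLin' ((u : Matrix (Fin n) (Fin n) F) - 1)
  have h4 : kd u (X - 1) = finrank F (LinearMap.ker (Matrix.toLin' ((u : Matrix (Fin n) (Fin n) F) - 1))) := by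
    rw [kd, aeval_toLin', map_sub, aeval_X, map_one]
  rw [zero_add, pow_one, pow_zero, Matrix.rank_one, Fintype.card_fin] at h1
  unfold mcol
  rw [h4]
  rw [h2, rank_map] at h1
  rw [h2]
  omega

variable [Finite K] {Q : ℤ} {M : ℕ}

/-- the type of a unipotent element -/
theorem typ_uni (hM : Nat.card Kˣ = M) (hQ : IsUnit (Q : ZMod M)) {X : Type*} [Group X]
    (T : TypeData (dOrb K Q) Q X n) {g : X} {u : GL (Fin n) F} (hu : Uni u)
    (hg : ∀ y : Kˣ, T.typ g (Quotient.mk (orbSetoid K Q) y) = mcol (u : Matrix (Fin n) (Fin n) F) (y : K)) :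
    T.typ g = Finsupp.single (Quotient.mk (orbSetoid K Q) 1) (mcol (u : Matrix (Fin n) (Fin n) F) (1 : K)) ∧
      (mcol (u : Matrix (Fin n) (Fin n) F) (1 : K)).size = n := by
  have h1 : T.typ g = Finsupp.single (Quotient.mk (orbSetoid K Q) 1) (mcol (u : Matrix (Fin n) (Fin n) F) (1 : K)) := by
    ext1 o
    induction o using Quotient.inductionOn with
    | h y =>
      rw [hg]
      by_cases hy : y = 1
      · rw [hy, Finsupp.single_eq_same, Units.val_one]
      · rw [mcol_uni hu (fun h => hy (Units.ext h)), Finsupp.single_eq_of_ne]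
        intro h
        obtain ⟨i, hi⟩ := (H421.GU.mk_eq_iff hM hQ).1 h
        rw [one_zpow] at hi
        exact hy hi
  refine ⟨h1, ?_⟩
  have h2 := T.deg g
  rw [h1, tdeg, Finsupp.sum_single_index (by rw [Col.size_zero, mul_zero]), dOrb_one hM hQ, one_mul] at h2
  exact h2

/-- **VAL-T4**, general form -/
theorem val_uni [NeZero M] (θ : K →*₀ ℂ) (hM : Nat.card Kˣ = M) (hQ : IsUnit (Q : ZMod M)) {G : Type*} [Group G]
    (T : TypeData (dOrb K Q) Q G n) (ι : G → GL (Fin n) F)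
    (hT : ∀ (g : G) (y : Kˣ), T.typ g (Quotient.mk (orbSetoid K Q) y) = mcol (ι g : Matrix (Fin n) (Fin n) F) (y : K))
    {δ : ZMod M} {χ : G → ℂ} (hχ : χ ≠ 0) {s : ℤˣ}
    (h : ∀ g, evR θ Q M (rv Q M n δ) (T.typ g) = ((s : ℤ) : ℂ) * χ g) :
    ∃ ε : ℤˣ, ∀ g, Uni (ι g) → χ g = ((ε : ℤ) : ℂ) * wt (Q : ℂ) (kd (ι g) (X - 1)) := by
  have hs : ((s : ℤ) : ℂ) * ((s : ℤ) : ℂ) = 1 := by
    rw [← Int.cast_mul, ← Units.val_mul, Int.units_mul_self, Units.val_one, Int.cast_one]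
  have hc : 0 < n ∧ TorZ Q M n δ := by
    by_contra hcon
    apply hχ
    funext g
    have h1 := h g
    rw [rv_eq_zero hcon, map_zero, Pi.zero_apply] at h1
    rw [Pi.zero_apply, ← one_mul (χ g), ← hs, mul_assoc, ← h1, mul_zero]
  refine ⟨s, fun g hg => ?_⟩
  obtain ⟨h1, h2⟩ := typ_uni hM hQ T hg (hT g)
  have h3 := h g
  rw [h1, evR_rv_uni hM hQ hc.1 hc.2 h2, mcol_uni_zero] at h3
  rw [h3, ← mul_assoc, hs, one_mul]

end typ

section main

universe u

variable {E : Type u} [Field E] {K : Type*} [Field K] [Algebra E K] [Finite K] {k Q₀ M : ℕ} [NeZero M]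

/-- **VAL-T4** for `GU_k(Q₀)` -/
theorem val_gu (θ : K →*₀ ℂ) (hM : Nat.card Kˣ = M) (hQ : IsUnit ((-(Q₀ : ℤ) : ℤ) : ZMod M))
    (T : TypeData (dOrb K (-(Q₀ : ℤ))) (-(Q₀ : ℤ)) (GU k E Q₀) k) (hT : IsTypU Q₀ k T) {δ : ZMod M}
    (θ₀ : IrrCharacter (GU k E Q₀)) {s : ℤˣ}
    (h : ∀ g, evR θ (-(Q₀ : ℤ)) M (rv (-(Q₀ : ℤ)) M k δ) (T.typ g) = ((s : ℤ) : ℂ) * (θ₀ : GU k E Q₀ → ℂ) g) :
    ∃ ε : ℤˣ, ∀ u, UniU u → (θ₀ : GU k E Q₀ → ℂ) u =
      ((ε : ℤ) : ℂ) * wt (-(Q₀ : ℂ)) (kd (u : GL (Fin k) E) (X - 1)) := by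
  have h0 : (θ₀ : GU k E Q₀ → ℂ) ≠ 0 := fun h0 =>
    Characters.Core.isIrr_apply_one_ne_zero θ₀.2 (by rw [h0]; rfl)
  obtain ⟨ε, hε⟩ := val_uni θ hM hQ T (fun g => (g : GL (Fin k) E)) hT h0 h
  refine ⟨ε, fun u hu => ?_⟩
  rw [hε u hu]
  push_cast
  rfl

/-- **VAL-T4** for `GL_k(E)` -/
theorem val_gl {q : ℕ} (θ : K →*₀ ℂ) (hM : Nat.card Kˣ = M) (hQ : IsUnit ((q : ℤ) : ZMod M))
    (T : TypeData (dOrb K (q : ℤ)) (q : ℤ) (GL (Fin k) E) k)
    (hT : ∀ (g : GL (Fin k) E) (x : Kˣ), T.typ g (Quotient.mk (orbSetoid K (q : ℤ)) x) = mcol g.1 (x : K)) {δ : ZMod M}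
    (θ₀ : IrrCharacter (GL (Fin k) E)) {s : ℤˣ}
    (h : ∀ g, evR θ (q : ℤ) M (rv (q : ℤ) M k δ) (T.typ g) = ((s : ℤ) : ℂ) * (θ₀ : GL (Fin k) E → ℂ) g) :
    ∃ ε : ℤˣ, ∀ u, Uni u → (θ₀ : GL (Fin k) E → ℂ) u = ((ε : ℤ) : ℂ) * wt (q : ℂ) (kd u (X - 1)) := by
  have h0 : (θ₀ : GL (Fin k) E → ℂ) ≠ 0 := fun h0 =>
    Characters.Core.isIrr_apply_one_ne_zero θ₀.2 (by rw [h0]; rfl)
  obtain ⟨ε, hε⟩ := val_uni θ hM hQ T (fun g => g) hT h0 h
  refine ⟨ε, fun u hu => ?_⟩
  rw [hε u hu]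
  push_cast
  rfl

end main

end Cfsg.Agent.H166.GUC
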